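import Cfsg.Agent.Lib.MonsterThree.Classes
import Cfsg.Agent.Lib.MonsterSeven.Cent

/-!
# The centraliser of the element of order three and its action on the fixed classes

* `cent3`, `act`, `rho` : the action on the 4096 codes
* `mat k`, `act_mat` : fifteen elements with their images
* `natCard_cent3_le` : the order of the centraliser is at most 117573120
-/

set_option autoImplicit false
set_option maxRecDepth 100000
open Cfsg
open scoped Matrix

namespace Cfsg.Agent.MonsterThree

open Leech MonsterLattice GolayClasses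
open Golay (bpt idx_bpt mem_chain)
open MonsterSeven (vecL coe_vecL inLatF inLatF_eq imgsF_eq cgL cg_of_cgL Cg.add' vec_perm mono_comm)

/-- The centraliser of the element of order three. -/
noncomputable def cent3 : Subgroup Co0 := Subgroup.centralizer ({g3} : Set Co0)

theorem mem_cent3 {η : Co0} : η ∈ cent3 ↔ η * g3 = g3 * η := Subgroup.mem_centralizer_singleton_iff

theorem fix_smul {η : Co0} (hη : η ∈ cent3) {v : leechLattice} (h : Fix3 v) : Fix3 (η • v) := by
  have h1 := MonsterLattice.Cg.smul η h
  rwa [← mul_smul, mem_cent3.1 hη, mul_smul] at h1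

theorem exists_act (η : cent3) (n : ℕ) : ∃ m < 4096, Cg ((η : Co0) • cls n) (cls m) :=
  exists_code (fix_smul η.2 (fix_cls n))

/-- The action on the codes. -/
noncomputable def act (η : cent3) (n : ℕ) : ℕ := (exists_act η n).choose

theorem act_lt (η : cent3) (n : ℕ) : act η n < 4096 := (exists_act η n).choose_spec.1

theorem act_spec (η : cent3) (n : ℕ) : Cg ((η : Co0) • cls n) (cls (act η n)) :=
  (exists_act η n).choose_spec.2

theorem act_eq {η : cent3} {n m : ℕ} (hm : m < 4096) (h : Cg ((η : Co0) • cls n) (cls m)) :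
    act η n = m :=
  code_unique (act_lt η n) hm ((act_spec η n).symm.trans h)

theorem act_one {n : ℕ} (hn : n < 4096) : act 1 n = n :=
  act_eq hn (by rw [OneMemClass.coe_one, one_smul]; exact cg_refl _)

theorem act_mul (η ζ : cent3) (n : ℕ) : act (η * ζ) n = act η (act ζ n) :=
  act_eq (act_lt _ _) (by
    rw [Subgroup.coe_mul, mul_smul]
    exact ((act_spec ζ n).smul (η : Co0)).trans (act_spec η _))

theorem act_xor (η : cent3) (a b : ℕ) : act η (a ^^^ b) = act η a ^^^ act η b :=
  act_eq (xor_lt (act_lt η a) (act_lt η b)) (by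
    refine ((cls_xor a b).smul (η : Co0)).trans ?_
    rw [smul_vadd]
    exact (Cg.add' (act_spec η a) (act_spec η b)).trans (cls_xor _ _).symm)

/-- The action as permutations of the codes. -/
noncomputable def rho : cent3 →* Equiv.Perm (Fin 4096) :=
  MonoidHom.mk' (fun η =>
    { toFun := fun n => ⟨act η n, act_lt η n⟩
      invFun := fun n => ⟨act η⁻¹ n, act_lt η⁻¹ n⟩
      left_inv := fun n => Fin.ext (by
        show act η⁻¹ (act η n) = n
        rw [← act_mul, inv_mul_cancel, act_one n.2])
      right_inv := fun n => Fin.ext (by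
        show act η (act η⁻¹ n) = n
        rw [← act_mul, mul_inv_cancel, act_one n.2]) })
    fun η ζ => Equiv.ext fun n => Fin.ext (act_mul η ζ n)

theorem rho_apply (η : cent3) (n : Fin 4096) : (rho η n : ℕ) = act η n := rfl

theorem rho_eq_one {η : cent3} : rho η = 1 ↔ ∀ n < 4096, Cg ((η : Co0) • cls n) (cls n) := by
  constructor
  · intro h n hn
    have e : act η n = n := congrArg Fin.val (Equiv.Perm.ext_iff.1 h ⟨n, hn⟩)
    simpa [e] using act_spec η n
  · exact fun h => Equiv.ext fun n => Fin.ext (act_eq n.2 (h n n.2))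

/-! ### The matrices -/

theorem matOK {k : ℕ} (hk : k < 15) :
    MatOK (toMat (matL k)) ∧ packL.getD k [] = packCols (matL k) ∧ (matL k).length = 24 ∧
      (matL k).all smallL = true := by
  refine matOK_of_lists (T := matT k) (P := packL.getD k []) (Q := packT.getD k [])
    (YL := (imgRows.getD k []).map MonsterSeven.row) (YT := (imgColsRows.getD k []).map MonsterSeven.row) ?_
  have h := matChk_eq k hk
  simp only [matChk, imgsF_eq] at h
  exact h

/-- An element of the certificate. -/
noncomputable def mat (k : ℕ) : Co0 := if h : k < 15 then matEl (toMat (matL k)) (matOK h).1 else 1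

theorem mat_mem (k : ℕ) : mat k ∈ cent3 := by
  by_cases hk : k < 15
  · have h := commChk_eq k hk
    simp only [commChk, List.all_eq_true, List.mem_range, beq_iff_eq] at h
    obtain ⟨hok, -, -, -⟩ := matOK hk
    have hperm : ∀ p q : GolayPt,
        toMat (matL k) (threeM.1 p) (threeM.1 q) = toMat (matL k) p q := fun p q => by
      show ((matL k).getD (Golay.idx (threeM.1 p)) []).getD (Golay.idx (threeM.1 q)) 0 =
        ((matL k).getD (Golay.idx p) []).getD (Golay.idx q) 0
      rw [idx_threeM, idx_threeM]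
      exact h _ (Golay.idx_lt p) _ (Golay.idx_lt q)
    refine mem_cent3.2 (co0_ext fun v => ?_)
    rw [mul_smul, mul_smul, mat, dif_pos hk]
    refine matEl_smul _ hok fun p => ?_
    rw [g3, vec_perm]
    have he : ∀ q, (toMat (matL k) *ᵥ (v : GolayPt → ℤ)) q =
        8 * ((matEl (toMat (matL k)) hok • v : leechLattice) : GolayPt → ℤ) q := fun q =>
      congrFun (matImage_spec hok.2.2.1 v) q
    rw [← he]
    simp only [Matrix.mulVec, dotProduct, vec_perm]
    refine (Fintype.sum_equiv threeM.1 _ _ fun q => ?_).symm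
    rw [← hperm, Equiv.apply_symm_apply, Equiv.symm_apply_apply]
  · rw [mat, dif_neg hk]; exact one_mem _

/-- An element of the certificate in the centraliser. -/
noncomputable def matC (k : ℕ) : cent3 := ⟨mat k, mat_mem k⟩

theorem imgCode_spec {k b : ℕ} (hk : k < 15) (hb : b < 12) :
    imgCode k b < 4096 ∧ Cg (mat k • bas b) (cls (imgCode k b)) := by
  obtain ⟨hok, hP, hL, hLb⟩ := matOK hk
  have h := imgChk_eq k hk
  simp only [imgChk, List.all_eq_true, List.mem_range, Bool.and_eq_true, beq_iff_eq,
    decide_eq_true_eq, inLatF_eq] at h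
  obtain ⟨⟨⟨⟨he, hs⟩, hin⟩, hlt⟩, hc⟩ := h b hb
  refine ⟨hlt, ?_⟩
  have e : mat k • bas b = vecL (imgL k b) := by
    rw [mat, dif_pos hk]
    exact matEl_smul_of_pack hok (fun r hr => smallL_spec (List.all_eq_true.1 hLb r hr)) hL
      (smallL_spec (bas_ok b hb).2.1) (smallL_spec hs) (hP ▸ he) (coe_bas hb) (coe_vecL hin)
  rw [e]
  exact cg_of_cgL (coe_vecL hin) (coe_cls _) hc

theorem cg_bits (v : ℕ → leechLattice) (c : ℕ → ℕ) (n : ℕ) : ∀ l : List ℕ,
    (∀ b ∈ l, c b < 4096 ∧ Cg (v b) (cls (c b))) →
      l.foldr (fun b a => if n.testBit b then c b ^^^ a else a) 0 < 4096 ∧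
        Cg ((l.map fun b => if n.testBit b then v b else 0).sum)
          (cls (l.foldr (fun b a => if n.testBit b then c b ^^^ a else a) 0))
  | [], _ => ⟨by simp, by simp [cls_zero, cg_refl]⟩
  | b :: l, h => by
    obtain ⟨hlt, hc⟩ := cg_bits v c n l fun x hx => h x (List.mem_cons_of_mem _ hx)
    obtain ⟨hb, hbc⟩ := h b List.mem_cons_self
    rw [List.foldr_cons, List.map_cons, List.sum_cons]
    by_cases ht : n.testBit b = true
    · rw [if_pos ht, if_pos ht]
      exact ⟨xor_lt hb hlt, (Cg.add' hbc hc).trans (cls_xor _ _).symm⟩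
    · rw [if_neg ht, if_neg ht, zero_add]
      exact ⟨hlt, hc⟩

theorem appC_spec {k : ℕ} (hk : k < 15) (n : ℕ) :
    appC k n < 4096 ∧ Cg (mat k • cls n) (cls (appC k n)) := by
  obtain ⟨hlt, hc⟩ := cg_bits (fun b => mat k • bas b) (imgCode k) n (List.range 12)
    fun b hb => imgCode_spec hk (List.mem_range.1 hb)
  refine ⟨hlt, Cg.trans ?_ hc⟩
  have e : mat k • cls n =
      ((List.range 12).map fun b => if n.testBit b then mat k • bas b else 0).sum := by
    rw [cls, ← addHom_apply, map_sum]
    show (∑ b ∈ Finset.range 12, addHom (mat k) (if n.testBit b then bas b else 0)) =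
      ∑ b ∈ Finset.range 12, if n.testBit b then mat k • bas b else 0
    refine Finset.sum_congr rfl fun b _ => ?_
    split
    · rfl
    · exact map_zero _
  rw [e]
  exact cg_refl _

theorem act_mat {k : ℕ} (hk : k < 15) (n : ℕ) : act (matC k) n = appC k n :=
  act_eq (appC_spec hk n).1 (appC_spec hk n).2

/-! ### The orbit of the standard frame -/

theorem low_spec {n : ℕ} (hn : n < 4096) (h : lowE n ≠ 0) :
    ∃ v : leechLattice, sqNorm (v : GolayPt → ℤ) < 64 ∧ Cg v (cls n) := by
  suffices H : ∀ d, ∀ n < 4096, lowE n ≠ 0 → (lowE n - 1) / 65536 = d →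
      ∃ v : leechLattice, sqNorm (v : GolayPt → ℤ) < 64 ∧ Cg v (cls n) from H _ n hn h rfl
  intro d
  induction d using Nat.strong_induction_on with
  | _ d ih =>
    intro n hn h0 hd
    have hok := lowOK_eq n hn
    unfold lowOK at hok
    split at hok
    · next e => exact absurd e h0
    · next e he =>
      rw [he, Nat.succ_sub_one] at hd
      split_ifs at hok with h15
      · simp only [Bool.and_eq_true, decide_eq_true_eq, inLatF_eq] at hok
        obtain ⟨⟨⟨-, hin⟩, hnorm⟩, hc⟩ := hok
        refine ⟨vecL (rootL (e % 4096)), ?_, cg_of_cgL (coe_vecL hin) (coe_cls _) hc⟩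
        rw [coe_vecL hin]
        refine lt_of_eq_of_lt ?_ hnorm
        rw [← vOf_dotProduct _ (show (rootL (e % 4096)).length = 24 from MonsterSeven.length_row _)]
        simp [sqNorm, dotProduct, sq]
      · simp only [Bool.and_eq_true, decide_eq_true_eq, beq_iff_eq] at hok
        obtain ⟨⟨⟨hk, hp⟩, hdep⟩, happ⟩ := hok
        obtain ⟨v, hv, hvc⟩ := ih _ (hd ▸ hdep) _ (Nat.mod_lt _ (by norm_num)) hp rfl
        refine ⟨mat (e / 4096 % 16) • v, by rw [sqNorm_smul]; exact hv,
          (hvc.smul _).trans ?_⟩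
        rw [← happ]
        exact (appC_spec hk _).2

theorem fix_eightVec : Fix3 (eightVec none) := by
  have h : ((g3 • eightVec none : leechLattice) : GolayPt → ℤ) ∈ stdCross :=
    mem_stdStab_iff.1 (permHom_mem _) _ (eightVec_mem_stdCross none)
  exact congr_of_mem_stdCross h (eightVec_mem_stdCross none)

/-- The code of the standard frame. -/
noncomputable def frameCode : ℕ := (exists_code fix_eightVec).choose

theorem frameCode_spec : frameCode < 4096 ∧ Cg (eightVec none) (cls frameCode) :=
  (exists_code fix_eightVec).choose_spec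

theorem act_frame_high (η : cent3) :
    act η frameCode ∈ ((List.range 4096).filter fun n => decide (n ≠ 0) && (lowE n == 0)).toFinset := by
  have hc : Cg ((η : Co0) • eightVec none) (cls (act η frameCode)) :=
    (frameCode_spec.2.smul (η : Co0)).trans (act_spec η _)
  have h64 : sqNorm (((η : Co0) • eightVec none : leechLattice) : GolayPt → ℤ) = 64 := by
    rw [sqNorm_smul, sqNorm_eightVec]
  simp only [List.mem_toFinset, List.mem_filter, List.mem_range, Bool.and_eq_true, decide_eq_true_eq,
    beq_iff_eq]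
  refine ⟨act_lt _ _, fun e => ?_, ?_⟩
  · rw [e, cls_zero] at hc
    exact not_cg_zero (Or.inr (Or.inr h64)) hc
  · by_contra hlow
    obtain ⟨v, hv, hvc⟩ := low_spec (act_lt _ _) hlow
    rcases congr_short ((η : Co0) • eightVec none).2 (hc.trans hvc.symm) h64.le hv.le with e | e | ⟨-, e, -⟩
    · rw [← e] at hv; omega
    · rw [e, sqNorm_neg] at h64; omega
    · omega

/-- The monomial part of the centraliser. -/
noncomputable def stab3 : Subgroup cent3 := (stdStab).subgroupOf cent3

/-- The permutations commuting with the given one. -/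
abbrev Perm3 : Type := {g : Equiv.Perm GolayPt // g ∈ M24 ∧ g * threeM.1 = threeM.1 * g}

theorem natCard_perm3_le : Nat.card Perm3 ≤ 1080 := by
  classical
  have hb : Golay.idx (bpt 0) = 23 ∧ Golay.idx (bpt 1) = 0 ∧ Golay.idx (bpt 2) = 1 :=
    ⟨idx_bpt 0 (by norm_num), idx_bpt 1 (by norm_num), idx_bpt 2 (by norm_num)⟩
  have b1 : threeM.1 (bpt 0) = bpt 1 := Golay.idx_injective (by rw [idx_threeM, hb.1, hb.2.1, repA_base.1])
  have b2 : threeM.1 (bpt 1) = bpt 2 := Golay.idx_injective (by rw [idx_threeM, hb.2.1, hb.2.2, repA_base.2.1])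
  have hc : ∀ (g : Perm3) p, g.1 (threeM.1 p) = threeM.1 (g.1 p) := fun g p =>
    Equiv.Perm.ext_iff.1 g.2.2 p
  have hfib : ∀ g0 : Perm3, (Finset.univ.filter fun g : Perm3 =>
      Golay.idx (g.1 (bpt 0)) = Golay.idx (g0.1 (bpt 0))).card ≤ 60 := by
    intro g0
    have key : ∀ g : Perm3, Golay.idx (g.1 (bpt 0)) = Golay.idx (g0.1 (bpt 0)) →
        ∃ ds ∈ (tails 4).filter commCand, ∀ p, Golay.idx ((g0.1⁻¹ * g.1) p) = app ds (Golay.idx p) := by
      intro g hg
      have e0 : (g0.1⁻¹ * g.1) (bpt 0) = bpt 0 := by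
        rw [Equiv.Perm.mul_apply, Equiv.Perm.inv_eq_iff_eq]; exact Golay.idx_injective hg
      have hcm : ∀ p, (g0.1⁻¹ * g.1) (threeM.1 p) = threeM.1 ((g0.1⁻¹ * g.1) p) := fun p => by
        rw [Equiv.Perm.mul_apply, Equiv.Perm.mul_apply, hc g, Equiv.Perm.inv_eq_iff_eq, hc g0,
          Equiv.Perm.inv_def, Equiv.apply_symm_apply]
      have e1 : (g0.1⁻¹ * g.1) (bpt 1) = bpt 1 := by rw [← b1, hcm, e0]
      have e2 : (g0.1⁻¹ * g.1) (bpt 2) = bpt 2 := by rw [← b2, hcm, e1]
      obtain ⟨ds, hds, hval⟩ := exists_tail 4 (by norm_num) (g0.1⁻¹ * g.1)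
        (mem_chain.2 ⟨mul_mem (inv_mem g0.2.1) g.2.1, fun i hi => by
          interval_cases i <;> assumption⟩)
      refine ⟨ds, List.mem_filter.2 ⟨hds, ?_⟩, hval⟩
      simp only [commCand, List.all_eq_true, List.mem_range, beq_iff_eq]
      intro i hi
      have e := congrArg Golay.idx (hcm (Golay.pt i))
      rwa [hval, idx_threeM, idx_threeM, hval, Golay.idx_pt hi] at e
    let f : Perm3 → List ℕ := fun g =>
      if h : Golay.idx (g.1 (bpt 0)) = Golay.idx (g0.1 (bpt 0)) then (key g h).choose else []
    refine le_trans (Finset.card_le_card_of_injOn f ?_ ?_) (le_trans (List.toFinset_card_le _) count_comm.le)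
    · intro g hg
      have hg' := (Finset.mem_filter.1 hg).2
      simp only [f, dif_pos hg', Finset.mem_coe, List.mem_toFinset]
      exact (key g hg').choose_spec.1
    · intro g hg g' hg' e
      have h1 := (Finset.mem_filter.1 hg).2
      have h2 := (Finset.mem_filter.1 hg').2
      simp only [f, dif_pos h1, dif_pos h2] at e
      refine Subtype.ext (mul_left_cancel (a := g0.1⁻¹) (Equiv.ext fun p => Golay.idx_injective ?_))
      rw [(key g h1).choose_spec.2, (key g' h2).choose_spec.2, e]
  rw [Nat.card_eq_fintype_card, ← Finset.card_univ]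
  let mv := ((List.range 24).filter fun i => decide (Golay.fn threeRepA i ≠ i)).toFinset
  have hmv : ∀ g : Perm3, Golay.idx (g.1 (bpt 0)) ∈ mv := fun g => by
    simp only [mv, List.mem_toFinset, List.mem_filter, List.mem_range, decide_eq_true_eq]
    refine ⟨Golay.idx_lt _, fun e => ?_⟩
    rw [← idx_threeM] at e
    have e' := Golay.idx_injective e
    rw [← hc, b1] at e'
    have := congrArg Golay.idx (g.1.injective e')
    rw [hb.2.1, hb.1] at this
    norm_num at this
  refine le_trans (Finset.card_le_mul_card_image (f := fun g : Perm3 => Golay.idx (g.1 (bpt 0)))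
    _ 60 fun a ha => ?_) ?_
  · obtain ⟨g0, -, rfl⟩ := Finset.mem_image.1 ha
    exact hfib g0
  · have : (Finset.univ.image fun g : Perm3 => Golay.idx (g.1 (bpt 0))).card ≤ 18 :=
      le_trans (Finset.card_le_card fun a ha => by
        obtain ⟨g, -, rfl⟩ := Finset.mem_image.1 ha; exact hmv g)
        (le_trans (List.toFinset_card_le _) repA_base.2.2.le)
    omega

theorem natCard_stab3_le : Nat.card stab3 ≤ 69120 := by
  classical
  have key : ∀ h : stab3, ∃ (g : Perm3) (c : Finset GolayPt)
      (hc : c ∈ supports (golayCode : Set (GolayPt → ZMod 2))),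
      Golay.maskOf c % 4096 ∈ fixWords ∧ ((h : cent3) : Co0) = mono g.1 g.2.1 c hc := by
    intro h
    obtain ⟨σ, hσ, c, hc, he⟩ := exists_mono_of_mem (Subgroup.mem_subgroupOf.1 h.2)
    have hcm := mem_cent3.1 (h : cent3).2
    rw [he] at hcm
    obtain ⟨e1, e2⟩ := mono_comm hσ hc (τ := threeM) (τ' := threeM) hcm
    refine ⟨⟨σ, hσ, e1⟩, c, hc, ?_, he⟩
    have hcode : Golay.enc (Golay.maskOf c % 4096) = Golay.maskOf c :=
      beq_iff_eq.1 (Golay.mem_supports_iff.1 hc)
    refine fixWord_chk.2 _ (Nat.mod_lt _ (by norm_num)) fun j hj => ?_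
    rw [hcode]
    have e3 := e2 (Golay.pt j)
    have hm : ∀ p, (p ∈ c) ↔ (Golay.maskOf c).testBit (Golay.idx p) = true := fun p => by
      rw [← Golay.mem_pts, Golay.pts_maskOf]
    rw [hm, hm, idx_threeM, Golay.idx_pt hj] at e3
    exact Bool.eq_iff_iff.2 e3
  choose g c hc hw he using key
  let f : stab3 → Perm3 × {x // x ∈ fixWords.toFinset} := fun h =>
    (g h, ⟨Golay.maskOf (c h) % 4096, List.mem_toFinset.2 (hw h)⟩)
  have hf : Function.Injective f := by
    intro a b e
    simp only [f, Prod.mk.injEq, Subtype.mk.injEq] at e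
    have h1 : Golay.maskOf (c a) = Golay.maskOf (c b) := by
      rw [← beq_iff_eq.1 (Golay.mem_supports_iff.1 (hc a)), ← beq_iff_eq.1 (Golay.mem_supports_iff.1 (hc b)),
        e.2]
    have h2 : c a = c b := by rw [← Golay.pts_maskOf (c a), h1, Golay.pts_maskOf]
    refine Subtype.ext (Subtype.ext ?_)
    rw [he a, he b]
    refine co0_ext fun v => Subtype.ext ?_
    rw [vec_mono, vec_mono, e.1, h2]
  refine le_trans (Nat.card_le_card_of_injective f hf) ?_
  rw [Nat.card_prod]
  have h64 : Nat.card {x // x ∈ fixWords.toFinset} ≤ 64 := by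
    rw [Nat.card_eq_fintype_card, Fintype.card_coe]
    exact le_trans (List.toFinset_card_le _) fixWord_chk.1.le
  exact le_trans (Nat.mul_le_mul natCard_perm3_le h64) (by norm_num)

theorem natCard_cent3_le : Nat.card cent3 ≤ 117573120 := by
  classical
  haveI : Fintype cent3 := Fintype.ofFinite _
  rw [Nat.card_eq_fintype_card, ← Finset.card_univ]
  refine le_trans (Finset.card_le_mul_card_image (f := fun η : cent3 => act η frameCode) _ 69120
    fun a ha => ?_) ?_
  · obtain ⟨η0, -, rfl⟩ := Finset.mem_image.1 ha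
    have hmem : ∀ η : cent3, act η frameCode = act η0 frameCode → η0⁻¹ * η ∈ stab3 := by
      intro η h
      rw [stab3, Subgroup.mem_subgroupOf, ← clsStab_eightVec, mem_clsStab]
      have e : act (η0⁻¹ * η) frameCode = frameCode := by
        rw [act_mul, h, ← act_mul, inv_mul_cancel, act_one frameCode_spec.1]
      have := act_spec (η0⁻¹ * η) frameCode
      rw [e] at this
      exact ((frameCode_spec.2.smul _).trans this).trans frameCode_spec.2.symm
    refine le_trans (Finset.card_le_card_of_injOn (t := (Finset.univ.filter fun h => h ∈ stab3))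
      (fun η => η0⁻¹ * η) (fun η hη => ?_) fun _ _ _ _ e => mul_left_cancel e) ?_
    · exact Finset.mem_filter.2 ⟨Finset.mem_univ _, hmem η (Finset.mem_filter.1 hη).2⟩
    · rw [← Fintype.card_subtype, ← Nat.card_eq_fintype_card]
      exact natCard_stab3_le
  · have h1701 : (Finset.univ.image fun η : cent3 => act η frameCode).card ≤ 1701 :=
      le_trans (Finset.card_le_card fun a ha => by
        obtain ⟨η, -, rfl⟩ := Finset.mem_image.1 ha; exact act_frame_high η)
        (le_trans (List.toFinset_card_le _) count_high.le)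
    omega

end Cfsg.Agent.MonsterThree
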