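import Cfsg.Agent.Lib.MonsterThree.Data
import Cfsg.Agent.Lib.MonsterThree.MatData
import Cfsg.Agent.Lib.MonsterSeven.MoveChecks
import Cfsg.Agent.Lib.GolayClasses.Three

/-!
# Kernel checks for the centraliser of an element of order three fixing six points
-/

set_option autoImplicit false
set_option maxRecDepth 100000
open Cfsg

namespace Cfsg.Agent.MonsterThree

open Leech GolayClasses
open MonsterSeven (row inLatF cgL imgsF forceN)

/-- The list of a basis vector. -/
def basL (b : ℕ) : List ℤ := row (basRows.getD b 0)

/-- The list of the representative of a class. -/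
def clsL (n : ℕ) : List ℤ :=
  (List.range 24).map fun j =>
    ((List.range 12).map fun b => if n.testBit b then (basL b).getD j 0 else 0).sum

/-- The sum of a list over the orbits of the permutation. -/
def avgL (g : List ℤ) : List ℤ :=
  (List.range 24).map fun j => g.getD j 0 + g.getD (Golay.fn threeRepA j) 0 +
    g.getD (Golay.fn threeRepA (Golay.fn threeRepA j)) 0

theorem bas_ok : ∀ b < 12, inLatF (basL b) = true ∧ smallL (basL b) = true ∧
    ∀ j < 24, (basL b).getD (Golay.fn threeRepA j) 0 = (basL b).getD j 0 := by
  decide +kernel

theorem dual_ok : ∀ b < 12, ∀ i < 12, dualCodes.getD i 0 < 4096 ∧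
    dotL (basL b) (clsL (dualCodes.getD i 0)) % 16 = if b = i then 8 else 0 := by
  decide +kernel

theorem avg_ok : avgCodes.length = genLists.length ∧ ∀ k < genLists.length,
    avgCodes.getD k 0 < 4096 ∧ cgL (avgL (genLists.getD k [])) (clsL (avgCodes.getD k 0)) = true := by
  decide +kernel

/-- The matrix with a number. -/
def matL (k : ℕ) : List (List ℤ) := (matRows.getD k []).map row

/-- The transposed matrix. -/
def matT (k : ℕ) : List (List ℤ) := (matCols.getD k []).map row

/-- The check of a matrix. -/
def matChk (k : ℕ) : Bool :=
  decide ((matL k).length = 24) && decide ((matT k).length = 24) && (matL k).all smallL &&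
    (matT k).all smallL && (packL.getD k [] == packCols (matL k)) &&
    (packT.getD k [] == packCols (matT k)) && ((matT k).map pack == packL.getD k []) &&
    orthOK (matL k) (packL.getD k []) && orthOK (matT k) (packT.getD k []) &&
    imgsF (packL.getD k []) genLists ((imgRows.getD k []).map row) &&
    imgsF (packT.getD k []) genLists ((imgColsRows.getD k []).map row)

/-- The matrix commutes with the permutation. -/
def commChk (k : ℕ) : Bool :=
  (List.range 24).all fun a => (List.range 24).all fun b =>
    ((matL k).getD (Golay.fn threeRepA a) []).getD (Golay.fn threeRepA b) 0 ==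
      ((matL k).getD a []).getD b 0

/-- The image code of a basis vector. -/
def imgCode (k b : ℕ) : ℕ := (imgCodes.getD k []).getD b 0

/-- The list of the image of a basis vector. -/
def imgL (k b : ℕ) : List ℤ := row ((imgBas.getD k []).getD b 0)

/-- The classes of the images of the basis. -/
def imgChk (k : ℕ) : Bool :=
  (List.range 12).all fun b =>
    (dotL (packL.getD k []) (basL b) == 8 * pack (imgL k b)) && smallL (imgL k b) &&
      inLatF (imgL k b) && decide (imgCode k b < 4096) && cgL (imgL k b) (clsL (imgCode k b))

theorem matChk_eq : ∀ k < 15, matChk k = true := by decide +kernel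

theorem commChk_eq : ∀ k < 15, commChk k = true := by decide +kernel

theorem imgChk_eq : ∀ k < 15, imgChk k = true := by decide +kernel

/-- The image of a code. -/
def appC (k n : ℕ) : ℕ :=
  (List.range 12).foldr (fun b a => if n.testBit b then imgCode k b ^^^ a else a) 0

/-! ### The classes without a vector of norm 64 -/

/-- An entry of the table. -/
def lowE (n : ℕ) : ℕ := (lowTab.getD (n / 128) []).getD (n % 128) 0

/-- The list of a root. -/
def rootL (i : ℕ) : List ℤ := row (rootRows.getD i 0)

/-- The check of an entry: a root, or the image of an entry of smaller depth. -/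
def lowOK (n : ℕ) : Bool :=
  match lowE n with
  | 0 => true
  | e + 1 =>
    if e / 4096 % 16 = 15 then
      decide (e % 4096 < 2) && inLatF (rootL (e % 4096)) &&
        decide (dotL (rootL (e % 4096)) (rootL (e % 4096)) < 64) && cgL (rootL (e % 4096)) (clsL n)
    else
      decide (e / 4096 % 16 < 15) && decide (lowE (e % 4096) ≠ 0) &&
        decide ((lowE (e % 4096) - 1) / 65536 < e / 65536) && (appC (e / 4096 % 16) (e % 4096) == n)

theorem lowOK_eq : ∀ n < 4096, lowOK n = true := by decide +kernel

theorem count_high : ((List.range 4096).filter fun n => decide (n ≠ 0) && (lowE n == 0)).length = 1701 := by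
  decide +kernel

/-! ### The monomial elements -/

theorem fixWord_chk : fixWords.length = 64 ∧ ∀ x < 4096,
    (∀ j < 24, (Golay.enc x).testBit (Golay.fn threeRepA j) = (Golay.enc x).testBit j) → x ∈ fixWords := by
  decide +kernel

/-- A candidate fixing the first base point commutes with the permutation. -/
def commCand (ds : List ℕ) : Bool :=
  (List.range 24).all fun i => app ds (Golay.fn threeRepA i) == Golay.fn threeRepA (app ds i)

theorem count_comm : ((tails 4).filter commCand).length = 60 := by decide +kernel

theorem repA_base : Golay.fn threeRepA 23 = 0 ∧ Golay.fn threeRepA 0 = 1 ∧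
    ((List.range 24).filter fun i => decide (Golay.fn threeRepA i ≠ i)).length = 18 := by
  decide +kernel

/-! ### A Sylow 3-subgroup -/

/-- The check of the list of elements of a Sylow subgroup. -/
def sylowChk : Bool :=
  sylowPerms.all Golay.isAut && decide (sylowPerms.length = 27) && sylowPerms.contains threeRepA &&
    GolayOrbitLists.allNew (sylowPerms.map frameKey) .nil &&
    (sylowPerms.all fun a => sylowPerms.all fun b => sylowPerms.any fun c =>
      (List.range 24).all fun i => Golay.fn c i == Golay.fn a (Golay.fn b i)) &&
    sylowPerms.all fun a =>
      ((List.range 24).all fun i => Golay.fn a i == i) ||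
      ((List.range 24).all fun i => Golay.fn a i == Golay.fn threeRepA i) ||
      ((List.range 24).all fun i => Golay.fn a i == Golay.fn threeRepA (Golay.fn threeRepA i)) ||
      sylowPerms.any fun b => (List.range 24).any fun i =>
        Golay.fn a (Golay.fn b i) != Golay.fn b (Golay.fn a i)

theorem sylowChk_eq : sylowChk = true := by decide +kernel

/-- The outer matrix inverts the scalars at a basis vector. -/
theorem outer_chk : appC 14 (appC 8 1) ≠ appC 8 (appC 14 1) := by decide +kernel

end Cfsg.Agent.MonsterThree
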