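import Cfsg.Agent.Lib.MonsterThree.Checks
import Cfsg.Agent.Lib.MonsterSeven.Fixed

/-!
# The classes fixed by an element of order three fixing six points

* `g3`, `Fix3` : the element and its fixed classes;  `bas b` : twelve fixed vectors
* `cls n` : the sum of the basis vectors of the bits of `n`; `cls_xor`
* `exists_code`, `code_unique` : every fixed class is the class of exactly one `cls n`, `n < 4096`
-/

set_option autoImplicit false
set_option maxRecDepth 100000
open Cfsg

namespace Cfsg.Agent.MonsterThree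

open Leech MonsterLattice GolayClasses
open MonsterSeven (vecL coe_vecL row length_row inLatF_eq cgL cg_of_cgL vOf_range Cg.add' cg_twice vec_perm)

/-- The permutation. -/
noncomputable def threeM : M24 := ⟨repA, repA_mem⟩

/-- The element of order three. -/
noncomputable def g3 : Co0 := permHom threeM

theorem valid_repA : Golay.validPerm threeRepA = true := by decide +kernel

theorem idx_threeM (p : GolayPt) : Golay.idx (threeM.1 p) = Golay.fn threeRepA (Golay.idx p) :=
  Golay.idx_toPerm valid_repA p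

theorem threeM_cube : threeM ^ 3 = 1 :=
  Subtype.ext (Equiv.ext fun p => rep_orders.1 p)

theorem g3_cube : g3 ^ 3 = 1 := by rw [g3, ← map_pow, threeM_cube, map_one]

/-- A basis vector. -/
def bas (b : ℕ) : leechLattice := vecL (basL b)

theorem coe_bas {b : ℕ} (hb : b < 12) : (bas b : GolayPt → ℤ) = vOf (basL b) :=
  coe_vecL (inLatF_eq _ ▸ (bas_ok b hb).1)

theorem g3_bas {b : ℕ} (hb : b < 12) : g3 • bas b = bas b := by
  refine Subtype.ext (funext fun i => ?_)
  rw [g3, vec_perm, coe_bas hb]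
  show (basL b).getD _ 0 = (basL b).getD _ 0
  conv_rhs => rw [← Equiv.apply_symm_apply threeM.1 i]
  generalize threeM.1.symm i = p
  rw [idx_threeM]
  exact ((bas_ok b hb).2.2 _ (Golay.idx_lt p)).symm

/-- The sum of the basis vectors of the bits. -/
def cls (n : ℕ) : leechLattice :=
  ∑ b ∈ Finset.range 12, if n.testBit b then bas b else 0

theorem cls_zero : cls 0 = 0 := Finset.sum_eq_zero fun b _ => by simp

theorem g3_cls (n : ℕ) : g3 • cls n = cls n := by
  rw [cls, ← addHom_apply, map_sum]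
  refine Finset.sum_congr rfl fun b hb => ?_
  split
  · exact g3_bas (Finset.mem_range.1 hb)
  · exact map_zero _

theorem sum_range_twelve (f : ℕ → ℤ) : ((List.range 12).map f).sum = ∑ b ∈ Finset.range 12, f b := by
  simp [Finset.sum_range_succ, List.range_succ, add_assoc]

theorem coe_cls (n : ℕ) : (cls n : GolayPt → ℤ) = vOf (clsL n) := by
  rw [cls, clsL, vOf_range, AddSubgroup.val_finsetSum]
  funext i
  rw [sum_range_twelve, Finset.sum_apply]
  refine Finset.sum_congr rfl fun b hb => ?_
  by_cases h : n.testBit b = true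
  · rw [if_pos h, if_pos h, coe_bas (Finset.mem_range.1 hb)]; rfl
  · rw [if_neg h, if_neg h]; rfl

theorem cg_sum {ι : Type*} (s : Finset ι) (f g : ι → leechLattice) (h : ∀ i ∈ s, Cg (f i) (g i)) :
    Cg (∑ i ∈ s, f i) (∑ i ∈ s, g i) := by
  classical
  induction s using Finset.induction_on with
  | empty => simp only [Finset.sum_empty]; exact cg_refl _
  | insert a s ha ih =>
    rw [Finset.sum_insert ha, Finset.sum_insert ha]
    exact Cg.add' (h a (Finset.mem_insert_self a s)) (ih fun i hi => h i (Finset.mem_insert_of_mem hi))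

theorem cls_xor (a c : ℕ) : Cg (cls (a ^^^ c)) (cls a + cls c) := by
  simp only [cls]
  rw [← Finset.sum_add_distrib]
  refine cg_sum _ _ _ fun b _ => ?_
  rw [Nat.testBit_xor]
  cases a.testBit b <;> cases c.testBit b <;> simp [cg_refl]
  exact (cg_twice _).symm

theorem dot_cls (n : ℕ) (w : GolayPt → ℤ) : dotInt (cls n : GolayPt → ℤ) w =
    ∑ b ∈ Finset.range 12, if n.testBit b then dotInt (bas b : GolayPt → ℤ) w else 0 := by
  rw [cls, AddSubgroup.val_finsetSum]
  simp only [dotInt, Finset.sum_apply, Finset.sum_mul]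
  rw [Finset.sum_comm]
  refine Finset.sum_congr rfl fun b _ => ?_
  split <;> simp

theorem dot_dual (n : ℕ) {i : ℕ} (hi : i < 12) :
    dotInt (cls n : GolayPt → ℤ) (cls (dualCodes.getD i 0) : GolayPt → ℤ) % 16 =
      if n.testBit i then 8 else 0 := by
  rw [dot_cls, Finset.sum_int_mod, Finset.sum_eq_single i]
  · split
    · rw [coe_bas hi, coe_cls]
      have h := (dual_ok i hi i hi).2
      rw [if_pos rfl] at h
      rw [show dotInt (vOf (basL i)) (vOf (clsL (dualCodes.getD i 0))) =
        dotL (basL i) (clsL (dualCodes.getD i 0)) from vOf_dotProduct _ (by simp [clsL]), h]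
      rfl
    · rfl
  · intro b hb hne
    split
    · rw [coe_bas (Finset.mem_range.1 hb), coe_cls]
      have h := (dual_ok b (Finset.mem_range.1 hb) i hi).2
      rw [if_neg hne] at h
      rw [show dotInt (vOf (basL b)) (vOf (clsL (dualCodes.getD i 0))) =
        dotL (basL b) (clsL (dualCodes.getD i 0)) from vOf_dotProduct _ (by simp [clsL]), h]
    · rfl
  · exact fun h => absurd (Finset.mem_range.2 hi) h

theorem dot_mod_of_cg {v w : leechLattice} (h : Cg v w) (u : leechLattice) :
    dotInt (v : GolayPt → ℤ) (u : GolayPt → ℤ) % 16 = dotInt (w : GolayPt → ℤ) (u : GolayPt → ℤ) % 16 := by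
  obtain ⟨x, rfl⟩ := cg_iff.1 h
  obtain ⟨c, hc⟩ := dvd_dotInt x.2 u.2
  have e : dotInt ((w + (x + x) : leechLattice) : GolayPt → ℤ) (u : GolayPt → ℤ) =
      dotInt (w : GolayPt → ℤ) (u : GolayPt → ℤ) + 16 * c := by
    rw [show (16 : ℤ) * c = 8 * c + 8 * c by ring, ← hc]
    simp only [dotInt, AddSubgroup.coe_add, Pi.add_apply, add_mul, Finset.sum_add_distrib]
  rw [e]; omega

theorem code_unique {a c : ℕ} (ha : a < 4096) (hc : c < 4096) (h : Cg (cls a) (cls c)) : a = c := by
  refine Nat.eq_of_testBit_eq fun i => ?_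
  by_cases hi : i < 12
  · have e := dot_mod_of_cg h (cls (dualCodes.getD i 0))
    rw [dot_dual a hi, dot_dual c hi] at e
    revert e
    cases a.testBit i <;> cases c.testBit i <;> simp
  · have hle : 2 ^ 12 ≤ 2 ^ i := Nat.pow_le_pow_right (by norm_num) (by omega)
    rw [Nat.testBit_lt_two_pow (show a < 2 ^ i by omega), Nat.testBit_lt_two_pow (show c < 2 ^ i by omega)]

theorem xor_lt {a b : ℕ} (ha : a < 4096) (hb : b < 4096) : a ^^^ b < 4096 :=
  Nat.xor_lt_two_pow (n := 12) ha hb

/-- A class in the span of the basis. -/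
def InSpan (v : leechLattice) : Prop := ∃ n < 4096, Cg v (cls n)

theorem InSpan.add {v w : leechLattice} : InSpan v → InSpan w → InSpan (v + w) := by
  rintro ⟨a, ha, h⟩ ⟨b, hb, h'⟩
  exact ⟨_, xor_lt ha hb, (Cg.add' h h').trans (cls_xor a b).symm⟩

theorem InSpan.zero : InSpan 0 := ⟨0, by norm_num, cls_zero ▸ cg_refl _⟩

theorem InSpan.neg {v : leechLattice} : InSpan v → InSpan (-v) :=
  fun ⟨a, ha, h⟩ => ⟨a, ha, MonsterSeven.cg_neg_left h⟩

/-- The sum of the images under the powers of the element. -/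
noncomputable def avg : leechLattice →+ leechLattice :=
  AddMonoidHom.id _ + addHom g3 + addHom (g3 * g3)

theorem avg_apply (v : leechLattice) : avg v = v + g3 • v + (g3 * g3) • v := rfl

theorem threeM_three (p : GolayPt) : threeM.1 (threeM.1 (threeM.1 p)) = p := rep_orders.1 p

theorem threeM_symm (p : GolayPt) : threeM.1.symm p = threeM.1 (threeM.1 p) := by
  rw [Equiv.symm_apply_eq]
  exact (rep_orders.1 p).symm

theorem coe_avg {v : leechLattice} {g : List ℤ} (hv : (v : GolayPt → ℤ) = vOf g) :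
    (avg v : GolayPt → ℤ) = vOf (avgL g) := by
  rw [avgL, vOf_range]
  funext i
  rw [avg_apply, AddSubgroup.coe_add, AddSubgroup.coe_add, Pi.add_apply, Pi.add_apply, mul_smul, g3,
    vec_perm, vec_perm, vec_perm, hv, threeM_symm, threeM_symm, threeM_three]
  simp only [vOf, idx_threeM]
  ring

theorem avg_mem (v : leechLattice) : InSpan (avg v) := by
  let A : AddSubgroup (GolayPt → ℤ) :=
    { carrier := {x | ∃ w : leechLattice, (w : GolayPt → ℤ) = x ∧ InSpan (avg w)}
      zero_mem' := ⟨0, rfl, by rw [map_zero]; exact InSpan.zero⟩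
      add_mem' := by
        rintro a b ⟨v, hv, e⟩ ⟨w, hw, e'⟩
        exact ⟨v + w, by rw [AddSubgroup.coe_add, hv, hw], by rw [map_add]; exact e.add e'⟩
      neg_mem' := by
        rintro a ⟨v, hv, e⟩
        exact ⟨-v, by rw [AddSubgroup.coe_neg, hv], by rw [map_neg]; exact e.neg⟩ }
  have good : ∀ g ∈ genLists, ∀ hg : vOf g ∈ leechLattice, vOf g ∈ A := fun g hg hmem => by
    obtain ⟨k, hk, rfl⟩ := List.getElem_of_mem hg
    obtain ⟨hlt, hc⟩ := avg_ok.2 k hk
    refine ⟨⟨_, hmem⟩, rfl, _, hlt, cg_of_cgL ?_ (coe_cls _) hc⟩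
    rw [List.getD_eq_getElem _ _ hk]
    exact coe_avg rfl
  have hlat : ∀ g ∈ genLists, vOf g ∈ leechLattice := fun g hg =>
    mem_of_inLatL ((List.all_eq_true.1 (by decide +kernel : genLists.all inLatL = true)) g hg)
  obtain ⟨-, h1, h2, h3, h4⟩ := genLists_spec
  obtain ⟨w, hw, hs⟩ : (v : GolayPt → ℤ) ∈ A := by
    refine mem_of_gens A (fun i => ?_) ?_ (fun r hr => ?_) ?_ v.2
    · obtain ⟨g, hg, e⟩ := h1 i; exact e ▸ good g hg (hlat g hg)
    · obtain ⟨g, hg, e⟩ := h2; exact e ▸ good g hg (hlat g hg)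
    · obtain ⟨g, hg, e⟩ := h4 r hr; exact e ▸ good g hg (hlat g hg)
    · obtain ⟨g, hg, e⟩ := h3; exact e ▸ good g hg (hlat g hg)
  rwa [show w = v from Subtype.ext hw] at hs

/-- A class fixed by the element. -/
def Fix3 (v : leechLattice) : Prop := Cg (g3 • v) v

theorem fix_cls (n : ℕ) : Fix3 (cls n) := by rw [Fix3, g3_cls]; exact cg_refl _

theorem exists_code {v : leechLattice} (h : Fix3 v) : ∃ n < 4096, Cg v (cls n) := by
  obtain ⟨n, hn, hc⟩ := avg_mem v
  refine ⟨n, hn, Cg.trans ?_ hc⟩
  rw [avg_apply]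
  have h2 : Cg ((g3 * g3) • v) v := by rw [mul_smul]; exact (h.smul g3).trans h
  refine Cg.trans ?_ (Cg.add' (Cg.add' (cg_refl v) h) h2).symm
  exact cg_iff.2 ⟨-v, by abel⟩

end Cfsg.Agent.MonsterThree
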