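import Cfsg.Agent.Lib.MonsterThree.Module
import Cfsg.Prelude.Def_MonsterType

/-!
# The centraliser of a 3-central element of order three modulo that element is of large Fischer type

* `fischer_at` : the statement at the image of z, with the image of Q ∩ C(b)
* `fischer` : the statement for a setting adapted to the element
-/

set_option autoImplicit false
open Cfsg
open scoped commutatorElement

namespace Cfsg.Agent.MonsterThree

open Leech MonsterLattice Monster LargeExtraspecial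

theorem natCard_comap_of_surjective {A B : Type*} [Group A] [Group B] (f : A →* B)
    (hf : Function.Surjective f) (K : Subgroup B) :
    Nat.card (K.comap f) = Nat.card K * Nat.card f.ker := by
  have h := natCard_map_mul f (K.comap f)
  rw [Subgroup.map_comap_eq_self_of_surjective hf, inf_eq_right.2 (f.ker_le_comap K)] at h
  exact h.symm

/-- The quotient of two preimages is the quotient of the subgroups. -/
theorem nonempty_quotient_comap {A B P : Type*} [Group A] [Group B] [Group P] (f : A →* B)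
    (hf : Function.Surjective f) (M N : Subgroup B) [N.Normal]
    (e : M ⧸ N.subgroupOf M ≃* P) :
    Nonempty ((M.comap f) ⧸ (N.comap f).subgroupOf (M.comap f) ≃* P) := by
  let g : M.comap f →* P :=
    e.toMonoidHom.comp ((QuotientGroup.mk' (N.subgroupOf M)).comp (f.subgroupComap M))
  have hfs : Function.Surjective (f.subgroupComap M) :=
    f.subgroupComap_surjective_of_surjective M hf
  have hg : Function.Surjective g :=
    e.surjective.comp ((QuotientGroup.mk'_surjective _).comp hfs)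
  have hk : g.ker = (N.comap f).subgroupOf (M.comap f) := by
    ext x
    show e (QuotientGroup.mk (f.subgroupComap M x)) = 1 ↔ _
    rw [EmbeddingLike.map_eq_one_iff, QuotientGroup.eq_one_iff]
    rfl
  exact ⟨(QuotientGroup.quotientMulEquivOfEq hk.symm).trans
    (QuotientGroup.quotientKerEquivOfSurjective g hg)⟩

theorem fischer_at {G : Type*} [Group G] [Finite G] (X : Ctx G)
    {CB : Subgroup G} (hCB : CB = Subgroup.centralizer ({X.b} : Set G))
    {H : Type*} [Group H] [Finite H] (π : CB →* H) (hπ : Function.Surjective π)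
    (hπk : ∀ c, π c = 1 ↔ (c : G) ∈ Subgroup.zpowers X.b) :
    ∃ (zc : CB) (_ : (zc : G) = X.z) (R : Subgroup (Subgroup.centralizer ({π zc} : Set H))) (_ : R.Normal),
      Cfsg.IsOfLargeFischerTypeAt (π zc) R ∧
        ∀ h : H, h ∈ R.map (Subgroup.subtype _) ↔ ∃ c : CB, (c : G) ∈ X.Q ∧ π c = h := by
  classical
  subst hCB
  haveI : Fact (Nat.Prime 2) := ⟨Nat.prime_two⟩
  obtain ⟨Mi, Ni, hNn, hNM, hMn, hNcard, hMidx, ⟨eU⟩, hcore⟩ := exists_structure
  have D := X.M.D
  set R0 := X.Q ⊓ Subgroup.centralizer ({X.b} : Set G) with hR0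
  have hR0T : R0 ≤ X.T := fun x hx => ⟨X.M.mem_centralizer hx.1, hx.2⟩
  have hzb : X.z ∈ Subgroup.centralizer ({X.b} : Set G) :=
    Subgroup.mem_centralizer_singleton_iff.2 X.z_comm
  let zC : Subgroup.centralizer ({X.b} : Set G) := ⟨X.z, hzb⟩
  let zb : H := π zC
  let Dg : Subgroup H := Subgroup.centralizer ({zb} : Set H)
  let ι : X.T →* Dg :=
    (π.comp (Subgroup.inclusion inf_le_right)).codRestrict Dg fun t =>
      Subgroup.mem_centralizer_singleton_iff.2 (by
        rw [MonoidHom.comp_apply, ← map_mul, ← map_mul]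
        exact congrArg π (Subtype.ext (Subgroup.mem_centralizer_singleton_iff.1 t.2.1)))
  have hιcoe : ∀ t : X.T, (ι t : H) = π ⟨t, t.2.2⟩ := fun t => rfl
  have hιk : ∀ t : X.T, ι t = 1 ↔ (t : G) ∈ Subgroup.zpowers X.b := fun t => by
    rw [← hπk ⟨t, t.2.2⟩, ← hιcoe t]
    exact ⟨fun h => by rw [h]; rfl, fun h => Subtype.ext h⟩
  have hzR0 : X.z ∈ R0 := ⟨D.z_mem, hzb⟩
  have hιs : Function.Surjective ι := by
    rintro ⟨y, hy⟩
    obtain ⟨c, rfl⟩ := hπ y
    have h1 : π (c * zC * c⁻¹ * zC⁻¹) = 1 := by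
      rw [map_mul, map_mul, map_mul, map_inv, map_inv, Subgroup.mem_centralizer_singleton_iff.1 hy]
      simp [zb]
    have hmem : (c : G) * X.z * (c : G)⁻¹ * X.z⁻¹ ∈ Subgroup.zpowers X.b := (hπk _).1 h1
    obtain ⟨i, hi⟩ := Subgroup.mem_zpowers_iff.1 hmem
    have e : (c : G) * X.z * (c : G)⁻¹ = X.b ^ i * X.z := by rw [hi]; group
    have hcz : Commute (X.b ^ i) X.z := (show Commute X.b X.z from X.bz).zpow_left i
    have h2 : (X.b ^ i * X.z) * (X.b ^ i * X.z) = 1 := by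
      rw [← e, show (c : G) * X.z * (c : G)⁻¹ * ((c : G) * X.z * (c : G)⁻¹) =
        (c : G) * (X.z * X.z) * (c : G)⁻¹ by group, D.z_sq]
      group
    have h3 : X.b ^ i * X.b ^ i = 1 := by
      have h4 : (X.b ^ i * X.z) * (X.b ^ i * X.z) = (X.b ^ i * X.b ^ i) * (X.z * X.z) :=
        hcz.symm.mul_mul_mul_comm _ _
      rw [h2, D.z_sq, mul_one] at h4
      exact h4.symm
    rw [X.eq_one_of_sq (zpow_mem (Subgroup.mem_zpowers _) i) h3, one_mul] at e
    exact ⟨⟨c, Subgroup.mem_centralizer_singleton_iff.2 (mul_inv_eq_iff_eq_mul.1 e), c.2⟩,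
      Subtype.ext rfl⟩
  have hbT : X.b ∈ X.T := ⟨X.hbz, Subgroup.mem_centralizer_singleton_iff.2 rfl⟩
  let bT : X.T := ⟨X.b, hbT⟩
  have hkerθ : ι.ker ≤ X.θ.ker := fun t ht => by
    obtain ⟨i, hi⟩ := Subgroup.mem_zpowers_iff.1 ((hιk t).1 ht)
    have : t = bT ^ i := Subtype.ext (by rw [SubgroupClass.coe_zpow]; exact hi.symm)
    rw [MonoidHom.mem_ker, this, map_zpow, X.θ_b (t := bT) rfl, one_zpow]
  let ψ : Dg →* imgHom.range := ι.liftOfSurjective hιs ⟨X.θ, hkerθ⟩
  have hψι : ∀ t, ψ (ι t) = X.θ t := fun t =>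
    MonoidHom.liftOfRightInverse_comp_apply ι _ (Function.rightInverse_surjInv hιs) ⟨X.θ, hkerθ⟩ t
  have hψs : Function.Surjective ψ := fun A => by
    obtain ⟨t, rfl⟩ := X.θ_surjective A
    exact ⟨ι t, hψι t⟩
  let R : Subgroup Dg := ψ.ker
  haveI hRn : R.Normal := inferInstanceAs ψ.ker.Normal
  let lf : R0 →* Dg := ι.comp (Subgroup.inclusion hR0T)
  have hlfi : Function.Injective lf := by
    refine (injective_iff_map_eq_one lf).2 fun q hq => Subtype.ext ?_
    exact X.not_mem_Q ((hιk _).1 hq) q.2.1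
  have hlf : lf.range = R := by
    ext d
    constructor
    · rintro ⟨q, rfl⟩
      exact (hψι _).trans (X.θ_of_mem_Q q.2.1)
    · intro hd
      obtain ⟨t, rfl⟩ := hιs d
      obtain ⟨q, hq, j, hj⟩ := X.θ_ker ((hψι t).symm.trans hd)
      refine ⟨⟨q, hq⟩, ?_⟩
      have h1 : t = ⟨q, hR0T hq⟩ * bT ^ j :=
        Subtype.ext (by rw [Subgroup.coe_mul, SubmonoidClass.coe_pow]; exact hj)
      rw [h1, map_mul, map_pow, (hιk bT).2 (Subgroup.mem_zpowers _), one_pow, mul_one]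
      rfl
  have hRmem : ∀ d, d ∈ R ↔ ∃ q : R0, lf q = d := fun d => by rw [← hlf]; rfl
  have hRcard : Nat.card R = 2 ^ (2 * 6 + 1) := by
    rw [← hlf, ← Nat.card_congr (MonoidHom.ofInjective hlfi).toEquiv, hR0, X.natCard_R0]; norm_num
  have hRp : IsPGroup 2 R := IsPGroup.of_card hRcard
  let zq : R0 := ⟨X.z, hzR0⟩
  let zd : Dg := lf zq
  have hzR : zd ∈ R := (hRmem _).2 ⟨zq, rfl⟩
  have hzd1 : zd ≠ 1 := fun h => D.z_ne (congrArg Subtype.val (hlfi (h.trans (map_one lf).symm)))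
  have hzcent : ∀ y : Dg, y * zd = zd * y := fun y =>
    Subtype.ext (Subgroup.mem_centralizer_singleton_iff.1 y.2)
  obtain ⟨q0, hq0, hq0s⟩ := X.exists_noncomm
  obtain ⟨hRex, -⟩ := isExtraspecial_of_gen hRp hzR hzd1 (fun q _ => hzcent q)
    (fun d hd hc => by
      obtain ⟨x, rfl⟩ := (hRmem d).1 hd
      rcases X.center_R0 x.2 (fun y hy => congrArg Subtype.val
        (hlfi (a₁ := (⟨y, hy⟩ : R0) * x) (a₂ := x * ⟨y, hy⟩)
          (by rw [map_mul, map_mul]; exact hc _ ((hRmem _).2 ⟨_, rfl⟩)))) with e | e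
      · exact Or.inl (by rw [show x = 1 from Subtype.ext e, map_one])
      · exact Or.inr (congrArg lf (Subtype.ext e : x = zq)))
    (fun a ha b hb => by
      obtain ⟨x, rfl⟩ := (hRmem a).1 ha
      obtain ⟨y, rfl⟩ := (hRmem b).1 hb
      rw [← map_commutatorElement]
      rcases D.comm _ x.2.1 _ y.2.1 with h | h
      · exact Or.inl (by rw [show ⁅x, y⁆ = 1 from Subtype.ext h, map_one])
      · exact Or.inr (congrArg lf (Subtype.ext h : ⁅x, y⁆ = zq)))
    (fun a ha => by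
      obtain ⟨x, rfl⟩ := (hRmem a).1 ha
      rw [← map_mul]
      rcases D.sq x.2.1 with h | h
      · exact Or.inl (by rw [show x * x = 1 from Subtype.ext h, map_one])
      · exact Or.inr (congrArg lf (Subtype.ext h : x * x = zq)))
    (by
      refine ⟨_, (hRmem _).2 ⟨⟨q0, hq0⟩, rfl⟩, _, (hRmem _).2 ⟨⟨X.s, X.s_mem_R0⟩, rfl⟩, ?_⟩
      rw [← map_commutatorElement]
      intro h
      exact hq0s (commutatorElement_eq_one_iff_mul_comm.mp
        (congrArg Subtype.val (hlfi (h.trans (map_one lf).symm)) : ⁅q0, X.s⁆ = 1)))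
  have hCR : Subgroup.centralizer (R : Set Dg) ≤ R := by
    intro d hd
    obtain ⟨t, rfl⟩ := hιs d
    show ψ (ι t) = 1
    rw [hψι]
    refine X.θ_of_centralizes fun q hq => ?_
    have h1 : ι ⁅t, (⟨q, hR0T hq⟩ : X.T)⁆ = 1 := by
      rw [map_commutatorElement, commutatorElement_eq_one_iff_mul_comm]
      exact (Subgroup.mem_centralizer_iff.1 hd _ ((hRmem _).2 ⟨⟨q, hq⟩, rfl⟩)).symm
    refine commutatorElement_eq_one_iff_mul_comm.mp (X.not_mem_Q ((hιk _).1 h1) ?_)
    show (t : G) * q * (t : G)⁻¹ * q⁻¹ ∈ X.Q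
    exact mul_mem (D.norm _ (Subgroup.mem_centralizer_singleton_iff.1 t.2.1) q hq.1) (inv_mem hq.1)
  have hO : ∀ N : Subgroup Dg, N.Normal → IsPGroup 2 N → N ≤ R := by
    intro N hN hNp
    haveI := hN.map ψ hψs
    have := hcore _ inferInstance (hNp.map ψ)
    exact (Subgroup.map_eq_bot_iff N).1 this
  obtain ⟨k, hkb, hkR, hkz⟩ := X.fusion
  let kC : Subgroup.centralizer ({X.b} : Set G) := ⟨k, Subgroup.mem_centralizer_singleton_iff.2 hkb⟩
  have hc : π kC * zb * (π kC)⁻¹ = (lf ⟨_, hkR⟩ : H) := by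
    rw [← map_inv, ← map_mul, ← map_mul]
    rfl
  refine ⟨zC, rfl, R, hRn, ⟨⟨?_, genFitting_eq_of hRp hCR hO, hRex, hRcard, π kC, ?_, ?_⟩,
    Ni.comap ψ, Mi.comap ψ, hNn.comap ψ, hMn.comap ψ, ψ.ker_le_comap Ni,
    Subgroup.comap_mono hNM, ?_,
    ⟨F9, inferInstance, inferInstance, card_F9, nonempty_quotient_comap ψ hψs Mi Ni eU⟩, ?_⟩, fun h => ?_⟩
  · refine orderOf_eq_prime ?_ fun h => hzd1 (Subtype.ext h)
    rw [pow_two, ← map_mul, show zC * zC = 1 from Subtype.ext D.z_sq, map_one]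
  · refine ⟨hc ▸ (lf _).2, ?_⟩
    exact Set.mem_of_eq_of_mem (Subtype.ext hc) ((hRmem _).2 ⟨_, rfl⟩)
  · rw [hc]
    intro h
    have h' : lf ⟨_, hkR⟩ = zd := Subtype.ext h
    exact hkz (congrArg Subtype.val (hlfi h'))
  · rw [natCard_comap_of_surjective ψ hψs Ni, hNcard]
  · rw [Subgroup.index_comap_of_surjective Mi hψs, hMidx]
  · constructor
    · rintro ⟨d, hd, rfl⟩
      obtain ⟨q, rfl⟩ := (hRmem _).1 hd
      exact ⟨⟨q, q.2.2⟩, q.2.1, rfl⟩
    · rintro ⟨c, hc, rfl⟩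
      exact ⟨lf ⟨c, hc, c.2⟩, (hRmem _).2 ⟨_, rfl⟩, rfl⟩

theorem fischer {G : Type*} [Group G] [Finite G] (X : Ctx G)
    {CB : Subgroup G} (hCB : CB = Subgroup.centralizer ({X.b} : Set G))
    {H : Type*} [Group H] [Finite H] (π : CB →* H) (hπ : Function.Surjective π)
    (hπk : ∀ c, π c = 1 ↔ (c : G) ∈ Subgroup.zpowers X.b) : Cfsg.IsOfLargeFischerType H := by
  obtain ⟨zc, -, R, hR, h, -⟩ := fischer_at X hCB π hπ hπk
  exact ⟨π zc, R, hR, h⟩

end Cfsg.Agent.MonsterThree
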