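import Cfsg.Agent.Lib.MonsterThree.Checks
import Cfsg.Agent.Lib.SUSixUFour.Checks

/-!
# The basis images agree with the matrices over the field with four elements
-/

set_option autoImplicit false
set_option maxRecDepth 100000
open Cfsg

namespace Cfsg.Agent.MonsterThree

open StabCert SUSixUFour SUSixUFour.Cert in
/-- The vector of a code. -/
def qcode (n : ℕ) : Fin 6 → M4 := fun j => qe 2 1 1 (n / 4 ^ j.val % 4)

open StabCert SUSixUFour SUSixUFour.Cert in
theorem qcode_xor : ∀ a < 4, ∀ b < 4, qe 2 1 1 (a ^^^ b) = qe 2 1 1 a + qe 2 1 1 b := by decide +kernel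

open StabCert SUSixUFour SUSixUFour.Cert in
/-- The images agree with the certificate. -/
def g6Chk : Bool :=
  (List.range 14).all fun k => (List.range 12).all fun b => (List.finRange 6).all fun i =>
    @decide ((((List.finRange 6).map fun l => m6 k i l * qcode (2 ^ b) l).sum) = qcode (imgCode k b) i)
      (instDecidableEqQuadraticAlgebra _ _)

theorem g6Chk_eq : g6Chk = true := by decide +kernel

end Cfsg.Agent.MonsterThree
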