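import Cfsg.Agent.Lib.MonsterThree.Classes
import Cfsg.Agent.Lib.MonsterSeven.Frame
import Cfsg.Agent.EqLemmas

/-!
# Adapting a setting of Monster type to a 3-central subgroup of order three of C(z, s)

* `exists_conj_of_card` : Sylow conjugacy inside a subgroup
* `sylW` : a Sylow 3-subgroup of the Mathieu group with centre generated by `threeM`
* `exists_adapted` : a setting with `eightVec none ↦ s`, `b ↦ g3`, and an element swapping z and s
  that normalises the subgroup generated by b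
-/

set_option autoImplicit false
open Cfsg

namespace Cfsg.Agent.MonsterThree

open Leech MonsterLattice Monster GolayClasses LargeExtraspecial
open MonsterSeven (conjSetting exists_normal_form natCard_stdImage centralizer_pair cg_R_one_eightVec
  clsStab_R_one)

theorem factorization_eq {p N k : ℕ} (hp : p.Prime) (hN : N ≠ 0) (h : p ^ k ∣ N) (h' : ¬ p ^ (k + 1) ∣ N) :
    N.factorization p = k := by
  have h1 := (hp.pow_dvd_iff_le_factorization hN).1 h
  have h2 : ¬ k + 1 ≤ N.factorization p := fun e => h' ((hp.pow_dvd_iff_le_factorization hN).2 e)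
  omega

theorem exists_conj_of_card {H : Type*} [Group H] {p : ℕ} [Fact p.Prime] (S : Subgroup H) [Finite S]
    {A B : Subgroup H} (hA : A ≤ S) (hB : B ≤ S)
    (hAc : Nat.card A = p ^ (Nat.card S).factorization p)
    (hBc : Nat.card B = p ^ (Nat.card S).factorization p) :
    ∃ m ∈ S, A.map (MulAut.conj m).toMonoidHom = B := by
  have hA' : Nat.card (A.subgroupOf S) = p ^ (Nat.card S).factorization p := by
    rw [Nat.card_congr (Subgroup.subgroupOfEquivOfLe hA).toEquiv, hAc]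
  have hB' : Nat.card (B.subgroupOf S) = p ^ (Nat.card S).factorization p := by
    rw [Nat.card_congr (Subgroup.subgroupOfEquivOfLe hB).toEquiv, hBc]
  obtain ⟨m, hm⟩ := MulAction.exists_smul_eq S (Sylow.ofCard _ hA') (Sylow.ofCard _ hB')
  refine ⟨m, m.2, ?_⟩
  have h2 := congrArg (fun P : Sylow p S => (P : Subgroup S)) hm
  simp only [Sylow.coe_subgroup_smul, Sylow.coe_ofCard] at h2
  ext x
  constructor
  · rintro ⟨a, ha, rfl⟩
    have h3 : m * ⟨a, hA ha⟩ * m⁻¹ ∈ B.subgroupOf S := by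
      rw [← h2, Subgroup.mem_pointwise_smul_iff_inv_smul_mem]
      simpa [MulAut.smul_def, mul_assoc, Subgroup.mem_subgroupOf] using ha
    simpa [Subgroup.mem_subgroupOf] using h3
  · intro hx
    have h3 : (⟨x, hB hx⟩ : S) ∈ B.subgroupOf S := hx
    rw [← h2, Subgroup.mem_pointwise_smul_iff_inv_smul_mem] at h3
    refine ⟨(m : H)⁻¹ * x * m, ?_, by simp [mul_assoc]⟩
    simpa [MulAut.smul_def, mul_assoc, Subgroup.mem_subgroupOf] using h3

/-! ### The reference Sylow subgroup -/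

theorem sylow_spec : (∀ d ∈ sylowPerms, Golay.isAut d = true) ∧ sylowPerms.length = 27 ∧
    threeRepA ∈ sylowPerms ∧ GolayOrbitLists.allNew (sylowPerms.map frameKey) .nil = true ∧
    (∀ a ∈ sylowPerms, ∀ b ∈ sylowPerms, ∃ c ∈ sylowPerms,
      ∀ i < 24, Golay.fn c i = Golay.fn a (Golay.fn b i)) ∧
    ∀ a ∈ sylowPerms, (∀ i < 24, Golay.fn a i = i) ∨ (∀ i < 24, Golay.fn a i = Golay.fn threeRepA i) ∨
      (∀ i < 24, Golay.fn a i = Golay.fn threeRepA (Golay.fn threeRepA i)) ∨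
      ∃ b ∈ sylowPerms, ∃ i < 24, Golay.fn a (Golay.fn b i) ≠ Golay.fn b (Golay.fn a i) := by
  have h := sylowChk_eq
  simp only [sylowChk, Bool.and_eq_true, Bool.or_eq_true, List.all_eq_true, List.any_eq_true,
    List.mem_range, beq_iff_eq, bne_iff_ne, decide_eq_true_eq, List.contains_iff_mem] at h
  obtain ⟨⟨⟨⟨⟨h1, h2⟩, h3⟩, h4⟩, h5⟩, h6⟩ := h
  exact ⟨h1, h2, h3, h4, h5, fun a ha => by simpa [or_assoc] using h6 a ha⟩

theorem toPerm_sylow_mem {d : ℕ} (hd : d ∈ sylowPerms) : Golay.toPerm d ∈ M24 :=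
  Golay.toPerm_mem_M24 (sylow_spec.1 d hd)

theorem idx_sylow {d : ℕ} (hd : d ∈ sylowPerms) (p : GolayPt) :
    Golay.idx (Golay.toPerm d p) = Golay.fn d (Golay.idx p) :=
  Golay.idx_toPerm (Golay.validPerm_of_isAut (sylow_spec.1 d hd)) p

/-- The reference subgroup. -/
noncomputable def sylW : Submonoid M24 where
  carrier := {σ | ∃ d ∈ sylowPerms, Golay.toPerm d = σ.1}
  mul_mem' := by
    rintro σ τ ⟨a, ha, e⟩ ⟨b, hb, e'⟩
    obtain ⟨c, hc, hcv⟩ := sylow_spec.2.2.2.2.1 a ha b hb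
    refine ⟨c, hc, Equiv.ext fun p => Golay.idx_injective ?_⟩
    rw [idx_sylow hc, hcv _ (Golay.idx_lt p), ← idx_sylow hb, ← idx_sylow ha, e', e]
    rfl
  one_mem' := by
    obtain ⟨c, hc, hcv⟩ := sylow_spec.2.2.2.2.1 _ sylow_spec.2.2.1 _ sylow_spec.2.2.1
    obtain ⟨d, hd, hdv⟩ := sylow_spec.2.2.2.2.1 _ sylow_spec.2.2.1 _ hc
    refine ⟨d, hd, Equiv.ext fun p => Golay.idx_injective ?_⟩
    rw [idx_sylow hd, hdv _ (Golay.idx_lt p), hcv _ (Golay.idx_lt p), ← idx_threeM, ← idx_threeM,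
      ← idx_threeM]
    exact congrArg Golay.idx (rep_orders.1 p)

/-- The homomorphism of the Mathieu group into the first Conway group. -/
noncomputable def mOne : M24 →* Spor.Co1 :=
  (QuotientGroup.mk' (Subgroup.center Co0)).comp permHom

theorem mOne_threeM : mOne threeM = QuotientGroup.mk g3 := rfl

theorem negOne_mem_signs : negOne ∈ signs := fun i => Or.inr (negOne_smul _)

theorem mOne_injective : Function.Injective mOne := by
  refine (injective_iff_map_eq_one mOne).2 fun σ h => permHom_disjoint ?_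
  rcases Leech.center_eq ((QuotientGroup.eq_one_iff _).1 h) with e | e <;> rw [e]
  · exact one_mem _
  · exact negOne_mem_signs

/-- The reference subgroup as a subgroup. -/
noncomputable def sylS : Subgroup M24 :=
  { sylW with
    inv_mem' := fun {x} hx => by
      rw [show x⁻¹ = x ^ (orderOf x - 1) from inv_eq_of_mul_eq_one_right (by
        rw [← pow_succ', Nat.sub_add_cancel (orderOf_pos x), pow_orderOf_eq_one])]
      exact sylW.pow_mem hx _ }

theorem mem_sylS {σ : M24} : σ ∈ sylS ↔ ∃ d ∈ sylowPerms, Golay.toPerm d = σ.1 := Iff.rfl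

theorem natCard_sylS : Nat.card sylS = 27 := by
  have h := natCard_of_enum (P := fun g => ∃ d ∈ sylowPerms, Golay.toPerm d = g) sylowPerms
    (List.all_eq_true.2 sylow_spec.1) sylow_spec.2.2.2.1 (fun d hd => ⟨d, hd, rfl⟩) fun g hg => hg
  rw [sylow_spec.2.1] at h
  rw [← h]
  refine Nat.card_congr ⟨fun σ => ⟨σ.1.1, σ.2⟩,
    fun g => ⟨⟨g.1, by obtain ⟨d, hd, e⟩ := g.2; exact e ▸ toPerm_sylow_mem hd⟩, g.2⟩,
    fun _ => rfl, fun _ => rfl⟩

theorem central_sylS {σ : M24} (hσ : σ ∈ sylS) (hc : ∀ τ ∈ sylS, σ * τ = τ * σ) :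
    σ = 1 ∨ σ = threeM ∨ σ = threeM * threeM := by
  obtain ⟨a, ha, e⟩ := hσ
  have hv : ∀ p, Golay.idx (σ.1 p) = Golay.fn a (Golay.idx p) := fun p => by rw [← e, idx_sylow ha]
  rcases sylow_spec.2.2.2.2.2 a ha with h | h | h | ⟨b, hb, i, hi, hne⟩
  · left
    refine Subtype.ext (Equiv.ext fun p => Golay.idx_injective ?_)
    rw [hv, h _ (Golay.idx_lt p)]; rfl
  · right; left
    refine Subtype.ext (Equiv.ext fun p => Golay.idx_injective ?_)
    rw [hv, h _ (Golay.idx_lt p), idx_threeM]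
  · right; right
    refine Subtype.ext (Equiv.ext fun p => Golay.idx_injective ?_)
    rw [hv, h _ (Golay.idx_lt p), Subgroup.coe_mul, Equiv.Perm.mul_apply, idx_threeM, idx_threeM]
  · refine absurd ?_ hne
    have h1 := congrArg (fun g : M24 => Golay.idx (g.1 (Golay.pt i)))
      (hc ⟨Golay.toPerm b, toPerm_sylow_mem hb⟩ ⟨b, hb, rfl⟩)
    simpa [hv, idx_sylow hb, Golay.idx_pt hi] using h1

theorem sylS_le : sylS.map mOne ≤ stdStab.map (QuotientGroup.mk' (Subgroup.center Co0)) := by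
  rintro _ ⟨σ, -, rfl⟩
  exact ⟨permHom σ, permHom_mem _, rfl⟩

theorem natCard_sylS_map : Nat.card (sylS.map mOne) = 27 := by
  rw [← Nat.card_congr (sylS.equivMapOfInjective mOne mOne_injective).toEquiv, natCard_sylS]

theorem mk_g3_order : orderOf (QuotientGroup.mk g3 : Spor.Co1) = 3 := by
  haveI : Fact (Nat.Prime 3) := ⟨Nat.prime_three⟩
  rw [← mOne_threeM, orderOf_injective mOne mOne_injective]
  refine orderOf_eq_prime threeM_cube fun hz => ?_
  have := congrArg (fun m : M24 => Golay.idx (m.1 (Golay.pt 23))) hz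
  simp only [idx_threeM, OneMemClass.coe_one, Equiv.Perm.one_apply] at this
  rw [Golay.idx_pt (by norm_num), repA_base.1] at this
  norm_num at this

/-! ### The adapted setting -/

variable {G : Type*} [Group G] {Q : Subgroup G} {z : G}

theorem exists_adapted [Finite G] (M : Setting Q z) {s : G} (hsQ : s ∈ Q) (hs : IsConj z s)
    (hne : s ≠ z) {Y : Subgroup G} (hY : Y ≤ Subgroup.centralizer ({z, s} : Set G))
    (hY3 : Nat.card Y = 3)
    (hc : ∃ P : Sylow 3 (Subgroup.centralizer ({z, s} : Set G)),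
      Y.subgroupOf (Subgroup.centralizer ({z, s} : Set G)) ≤
        (Subgroup.center (P : Subgroup (Subgroup.centralizer ({z, s} : Set G)))).map
          (P : Subgroup (Subgroup.centralizer ({z, s} : Set G))).subtype) :
    ∃ M' : Setting Q z, M'.rel (eightVec none) s ∧
      ∃ (b : G) (hbz : b ∈ Subgroup.centralizer ({z} : Set G)),
        b * s = s * b ∧ Subgroup.zpowers b = Y ∧ orderOf b = 3 ∧
          M'.κ ⟨b, hbz⟩ = QuotientGroup.mk g3 ∧
          ∃ n : G, n * z * n⁻¹ = s ∧ n * s * n⁻¹ = z ∧ n * b * n⁻¹ ∈ Subgroup.zpowers b := by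
  haveI : Fact (Nat.Prime 3) := ⟨Nat.prime_three⟩
  haveI : Fact (Nat.Prime 2) := ⟨Nat.prime_two⟩
  obtain ⟨M1, h1'⟩ := exists_normal_form M hsQ hs hne
  have h1 : M1.rel (eightVec none) s := M1.rel_of_cg h1' cg_R_one_eightVec
  have h64 : sqNorm (eightVec none : GolayPt → ℤ) = 64 := sqNorm_eightVec none
  set C := Subgroup.centralizer ({z} : Set G)
  set L := Subgroup.centralizer ({z, s} : Set G) with hLdef
  have hLC : L ≤ C := by rw [hLdef, centralizer_pair]; exact inf_le_left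
  have hLs : ∀ x ∈ L, x * s = s * x := fun x hx => by
    rw [hLdef, centralizer_pair] at hx
    exact Subgroup.mem_centralizer_singleton_iff.1 hx.2
  set S' := stdStab.map (QuotientGroup.mk' (Subgroup.center Co0))
  let φ : L →* Spor.Co1 := M1.κ.comp (Subgroup.inclusion hLC)
  have hφr : φ.range = S' := by
    rw [show S' = (clsStab (eightVec none)).map (QuotientGroup.mk' (Subgroup.center Co0)) by
      rw [clsStab_eightVec], ← M1.map_centralizer h1 (Or.inr (Or.inr h64))]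
    ext x
    constructor
    · rintro ⟨y, rfl⟩
      exact ⟨⟨y, hLC y.2⟩, Subgroup.mem_centralizer_singleton_iff.2 (hLs y y.2), rfl⟩
    · rintro ⟨⟨y, hy⟩, hys, rfl⟩
      exact ⟨⟨y, by rw [hLdef, centralizer_pair]; exact ⟨hy, hys⟩⟩, rfl⟩
  obtain ⟨P, hPY⟩ := hc
  have hker : IsPGroup 2 φ.ker := by
    intro x
    obtain ⟨k, hk⟩ := LargeExtraspecial.isPGroup_of_extraspecial M1.extra
      ⟨((x : L) : G), (M1.κ_ker _).1 (MonoidHom.mem_ker.1 x.2)⟩
    exact ⟨k, Subtype.ext (Subtype.ext (by simpa using congrArg Subtype.val hk))⟩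
  obtain ⟨a, ha⟩ := IsPGroup.iff_card.1 hker
  have hLcard : Nat.card L = 2 ^ 11 * 244823040 * 2 ^ a := by
    rw [Subgroup.card_eq_card_quotient_mul_card_subgroup φ.ker,
      Nat.card_congr (QuotientGroup.quotientKerEquivRange φ).toEquiv, hφr, natCard_stdImage, ha]
  have hL3 : (Nat.card L).factorization 3 = 3 := by
    refine factorization_eq Nat.prime_three Nat.card_pos.ne' ?_ ?_
    · rw [hLcard]; exact Dvd.dvd.mul_right (by norm_num) _
    · rw [hLcard]
      intro h81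
      have := (Nat.Coprime.pow_right a (by norm_num : Nat.Coprime (3 ^ 4) 2)).dvd_of_dvd_mul_right h81
      norm_num at this
  have hP27 : Nat.card (P : Subgroup L) = 27 := by
    rw [P.card_eq_multiplicity, hL3]; norm_num
  have hinjP : ∀ x ∈ (P : Subgroup L), φ x = 1 → x = 1 := by
    intro x hx hx1
    obtain ⟨k, hk⟩ := hker ⟨x, hx1⟩
    obtain ⟨l, hl⟩ := P.isPGroup' ⟨x, hx⟩
    have e2 : orderOf x ∣ 2 ^ k := orderOf_dvd_of_pow_eq_one (by simpa using congrArg Subtype.val hk)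
    have e3 : orderOf x ∣ 3 ^ l := orderOf_dvd_of_pow_eq_one (by simpa using congrArg Subtype.val hl)
    have := Nat.dvd_gcd e2 e3
    rw [(Nat.Coprime.pow k l (by norm_num : Nat.Coprime 2 3)).gcd_eq_one] at this
    exact orderOf_eq_one_iff.1 (Nat.dvd_one.1 this)
  have hPmap : Nat.card ((P : Subgroup L).map φ) = 27 := by
    rw [← hP27]
    refine (Nat.card_congr (Equiv.ofBijective
      (fun x : (P : Subgroup L) => (⟨φ x, x, x.2, rfl⟩ : (P : Subgroup L).map φ)) ⟨?_, ?_⟩)).symm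
    · intro x y h
      have h' : φ x = φ y := congrArg Subtype.val h
      refine Subtype.ext (mul_inv_eq_one.1 (hinjP _ (mul_mem x.2 (inv_mem y.2)) ?_))
      rw [map_mul, map_inv, h', mul_inv_cancel]
    · rintro ⟨_, x, hx, rfl⟩; exact ⟨⟨x, hx⟩, rfl⟩
  have hS3 : (Nat.card S').factorization 3 = 3 := by
    rw [natCard_stdImage]
    exact factorization_eq Nat.prime_three (by norm_num) (by norm_num) (by norm_num)
  obtain ⟨m, hm, hconj⟩ := exists_conj_of_card (p := 3) S'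
    (A := (P : Subgroup L).map φ) (B := sylS.map mOne)
    (hφr ▸ Subgroup.map_le_range _ _) sylS_le (by rw [hPmap, hS3]; norm_num)
    (by rw [natCard_sylS_map, hS3]; norm_num)
  obtain ⟨m0, hm0, rfl⟩ := hm
  set M' := conjSetting M1 m0⁻¹ with hM'
  let φ' : L →* Spor.Co1 := M'.κ.comp (Subgroup.inclusion hLC)
  have hφ' : ∀ x, φ' x = QuotientGroup.mk m0 * φ x * (QuotientGroup.mk m0 : Spor.Co1)⁻¹ := fun x => by
    show MulAut.conj _ (φ x) = _
    rw [MulAut.conj_apply, QuotientGroup.mk_inv, inv_inv]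
  have hPW : ∀ x ∈ (P : Subgroup L), φ' x ∈ sylS.map mOne := fun x hx => by
    rw [← hconj, hφ']
    exact ⟨φ x, ⟨x, hx, rfl⟩, rfl⟩
  have hWP : ∀ w ∈ sylS.map mOne, ∃ x ∈ (P : Subgroup L), φ' x = w := fun w hw => by
    rw [← hconj] at hw
    obtain ⟨_, ⟨x, hx, rfl⟩, rfl⟩ := hw
    exact ⟨x, hx, hφ' x⟩
  have hinj' : ∀ x ∈ (P : Subgroup L), φ' x = 1 → x = 1 := fun x hx h => by
    rw [hφ', conj_eq_one_iff] at h
    exact hinjP x hx h
  -- a central element of the Sylow subgroup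
  have hcentral : ∀ x ∈ (P : Subgroup L), (∀ y ∈ (P : Subgroup L), x * y = y * x) →
      ∃ i : ℕ, φ' x = (QuotientGroup.mk g3 : Spor.Co1) ^ i := by
    intro x hx hxc
    obtain ⟨σ, hσ, hσe⟩ := hPW x hx
    have hσc : ∀ τ ∈ sylS, σ * τ = τ * σ := by
      intro τ hτ
      obtain ⟨y, hy, hye⟩ := hWP (mOne τ) ⟨τ, hτ, rfl⟩
      refine mOne_injective ?_
      rw [map_mul, map_mul, hσe, ← hye, ← map_mul, ← map_mul, hxc y hy]
    rcases central_sylS hσ hσc with e | e | e <;> rw [e] at hσe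
    · exact ⟨0, by rw [pow_zero, ← hσe, map_one]⟩
    · exact ⟨1, by rw [pow_one, ← hσe, mOne_threeM]⟩
    · exact ⟨2, by rw [pow_two, ← hσe, map_mul, mOne_threeM]⟩
  haveI : IsCyclic Y := isCyclic_of_prime_card hY3
  obtain ⟨⟨b0, hb0⟩, hgen⟩ := IsCyclic.exists_generator (α := Y)
  obtain ⟨b0', hb0c, hb0e⟩ := hPY (show (⟨b0, hY hb0⟩ : L) ∈ Y.subgroupOf L from hb0)
  have hb0P : (⟨b0, hY hb0⟩ : L) ∈ (P : Subgroup L) := hb0e ▸ b0'.2
  have hb0cent : ∀ y ∈ (P : Subgroup L), (⟨b0, hY hb0⟩ : L) * y = y * ⟨b0, hY hb0⟩ := fun y hy => by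
    rw [← hb0e]
    exact congrArg Subtype.val (Subgroup.mem_center_iff.1 hb0c ⟨y, hy⟩).symm
  obtain ⟨i, hi⟩ := hcentral _ hb0P hb0cent
  have hYz : Subgroup.zpowers b0 = Y := by
    refine le_antisymm (Subgroup.zpowers_le.2 hb0) fun x hx => ?_
    obtain ⟨j, hj⟩ := Subgroup.mem_zpowers_iff.1 (hgen ⟨x, hx⟩)
    exact Subgroup.mem_zpowers_iff.2 ⟨j, by simpa using congrArg Subtype.val hj⟩
  have hb03 : orderOf b0 = 3 := by rw [← Nat.card_zpowers, hYz, hY3]
  have hg33 : (QuotientGroup.mk g3 : Spor.Co1) ^ 3 = 1 := by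
    rw [← QuotientGroup.mk_pow, g3_cube, QuotientGroup.mk_one]
  have hi0 : i % 3 ≠ 0 := fun e => by
    rw [← Nat.mod_add_div i 3, e, zero_add, pow_mul, hg33, one_pow] at hi
    have := congrArg (fun t : L => (t : G)) (hinj' _ hb0P hi)
    simp only [OneMemClass.coe_one] at this
    rw [this, orderOf_one] at hb03
    norm_num at hb03
  have hbi : (⟨b0, hY hb0⟩ : L) ^ i ∈ (P : Subgroup L) := pow_mem hb0P i
  set b : G := b0 ^ i with hb
  have hbL : b ∈ L := pow_mem (hY hb0) i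
  have hbord : orderOf b = 3 := by
    rw [hb, Nat.Coprime.orderOf_pow]
    · exact hb03
    · rw [hb03]; exact (Nat.prime_three.coprime_iff_not_dvd).2 fun h => hi0 (Nat.mod_eq_zero_of_dvd h)
  have hbY : Subgroup.zpowers b = Y := by
    refine Subgroup.eq_of_le_of_card_ge (Subgroup.zpowers_le.2 (pow_mem hb0 i)) ?_
    rw [hY3, Nat.card_zpowers, hbord]
  have hκb : M'.κ ⟨b, hLC hbL⟩ = QuotientGroup.mk g3 := by
    show φ' ((⟨b0, hY hb0⟩ : L) ^ i) = _
    rw [map_pow, hi, ← pow_mul, ← Nat.mod_add_div (i * i) 3, pow_add, pow_mul _ 3, hg33, one_pow, mul_one]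
    have : i * i % 3 = 1 := by
      rw [Nat.mul_mod]
      have : i % 3 < 3 := Nat.mod_lt _ (by norm_num)
      interval_cases (i % 3) <;> simp_all
    rw [this, pow_one]
  have hrel : M'.rel (eightVec none) s := by
    refine M1.rel_of_cg h1 ?_
    have h' : m0⁻¹ ∈ clsStab (eightVec none) := by rw [clsStab_eightVec]; exact inv_mem hm0
    exact (mem_clsStab.1 h').symm
  refine ⟨M', hrel, b, hLC hbL, hLs b hbL, hbY, hbord, hκb, ?_⟩
  -- the element swapping z and s
  have D := M.D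
  obtain ⟨g, rfl⟩ := isConj_iff.1 hs
  have hzP := D.mem_conj hsQ hne (by rw [M.card_Q]; norm_num)
  set y := g⁻¹ * z * g with hydef
  have hyQ : y ∈ Q := mem_conjS.1 hzP
  have hyc : IsConj z y := isConj_iff.2 ⟨g⁻¹, by rw [hydef]; group⟩
  have hyne : y ≠ z := fun e => hne (by
    calc g * z * g⁻¹ = g * (g⁻¹ * z * g) * g⁻¹ := by rw [← hydef, e]
      _ = z := by group)
  obtain ⟨w, hw, hwn⟩ := M1.rep64 hyQ hyc hyne
  obtain ⟨h, hh, hhe⟩ := M1.conj_of_norm h1 hw (Or.inr (Or.inr h64)) (hwn.trans h64.symm)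
  have hhz : h * z * h⁻¹ = z := mul_inv_eq_iff_eq_mul.2 (Subgroup.mem_centralizer_singleton_iff.1 hh)
  set s := g * z * g⁻¹ with hsdef
  have hnz : (g * h) * z * (g * h)⁻¹ = s := by
    calc (g * h) * z * (g * h)⁻¹ = g * (h * z * h⁻¹) * g⁻¹ := by group
      _ = s := by rw [hhz]
  have hns : (g * h) * s * (g * h)⁻¹ = z := by
    calc (g * h) * s * (g * h)⁻¹ = g * (h * s * h⁻¹) * g⁻¹ := by group
      _ = g * y * g⁻¹ := by rw [hhe]
      _ = z := by rw [hydef]; group
  set n := g * h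
  have hnL : ∀ x ∈ L, n * x * n⁻¹ ∈ L := by
    intro x hx
    have hxz : x * z = z * x := Subgroup.mem_centralizer_singleton_iff.1 (hLC hx)
    rw [hLdef, centralizer_pair, Subgroup.mem_inf, Subgroup.mem_centralizer_singleton_iff,
      Subgroup.mem_centralizer_singleton_iff]
    constructor
    · rw [← hns]
      calc n * x * n⁻¹ * (n * s * n⁻¹) = n * (x * s) * n⁻¹ := by group
        _ = n * s * n⁻¹ * (n * x * n⁻¹) := by rw [hLs x hx]; group
    · rw [← hnz]
      calc n * x * n⁻¹ * (n * z * n⁻¹) = n * (x * z) * n⁻¹ := by group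
        _ = n * z * n⁻¹ * (n * x * n⁻¹) := by rw [hxz]; group
  set P0 : Subgroup G := (P : Subgroup L).map L.subtype with hP0
  have hP0c : Nat.card P0 = 27 := by rw [hP0, Subgroup.card_subtype, hP27]
  obtain ⟨c, hcL, hcP⟩ := exists_conj_of_card (p := 3) L (A := P0.map (MulAut.conj n).toMonoidHom)
    (B := P0)
    (by rintro _ ⟨_, ⟨x, -, rfl⟩, rfl⟩; exact hnL x x.2)
    (Subgroup.map_subtype_le _)
    (by rw [← Nat.card_congr (P0.equivMapOfInjective _ (MulAut.conj n).injective).toEquiv, hP0c, hL3]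
        norm_num)
    (by rw [hP0c, hL3]; norm_num)
  have hcz : c * z * c⁻¹ = z :=
    mul_inv_eq_iff_eq_mul.2 (Subgroup.mem_centralizer_singleton_iff.1 (hLC hcL))
  have hcs : c * s * c⁻¹ = s := mul_inv_eq_iff_eq_mul.2 (hLs c hcL)
  refine ⟨c * n, ?_, ?_, ?_⟩
  · calc c * n * z * (c * n)⁻¹ = c * (n * z * n⁻¹) * c⁻¹ := by group
      _ = s := by rw [hnz, hcs]
  · calc c * n * s * (c * n)⁻¹ = c * (n * s * n⁻¹) * c⁻¹ := by group
      _ = z := by rw [hns, hcz]
  · have himg : ∀ x : L, x ∈ (P : Subgroup L) → c * n * x * (c * n)⁻¹ ∈ P0 := fun x hx => by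
      rw [← hcP]
      exact ⟨n * x * n⁻¹, ⟨x, ⟨x, hx, rfl⟩, rfl⟩, by simp [mul_assoc]⟩
    obtain ⟨t, ht, hte⟩ := himg ⟨b, hbL⟩ hbi
    have htc : ∀ y ∈ (P : Subgroup L), t * y = y * t := by
      intro y hy
      -- every element of P is the conjugate of an element of P
      have hy0 : (y : G) ∈ P0 := ⟨y, hy, rfl⟩
      rw [← hcP] at hy0
      obtain ⟨_, ⟨_, ⟨x, hx, rfl⟩, rfl⟩, hxe⟩ := hy0
      have hcomm : b * (x : G) = (x : G) * b := by
        have h0 : Commute b0 (x : G) := congrArg Subtype.val (hb0cent x hx)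
        exact (h0.pow_left i).eq
      refine Subtype.ext ?_
      simp only [Subgroup.coe_mul]
      rw [show (t : G) = c * n * b * (c * n)⁻¹ from hte, ← hxe]
      simp only [Subgroup.coe_subtype, MulEquiv.coe_toMonoidHom, MulAut.conj_apply]
      calc c * n * b * (c * n)⁻¹ * (c * (n * (x : G) * n⁻¹) * c⁻¹)
          = c * n * (b * x) * (c * n)⁻¹ := by group
        _ = c * (n * (x : G) * n⁻¹) * c⁻¹ * (c * n * b * (c * n)⁻¹) := by rw [hcomm]; group
    obtain ⟨k, hk⟩ := hcentral t ht htc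
    have htb : t = (⟨b, hbL⟩ : L) ^ k := by
      refine mul_inv_eq_one.1 (hinj' _ (mul_mem ht (inv_mem (pow_mem hbi k))) ?_)
      rw [map_mul, map_inv, map_pow, hk, show φ' ⟨b, hbL⟩ = QuotientGroup.mk g3 from hκb, mul_inv_cancel]
    rw [← show (t : G) = c * n * b * (c * n)⁻¹ from hte, htb, SubmonoidClass.coe_pow]
    exact pow_mem (Subgroup.mem_zpowers b) k

end Cfsg.Agent.MonsterThree
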