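import Cfsg.Agent.Lib.MonsterThree.Cent
import Cfsg.Agent.Lib.MonsterThree.FourChecks
import Cfsg.Agent.Lib.SUSixUFour.Model

/-!
# The action of the centraliser on the fixed classes is 3.U4(3).2

* `imgHom` : the action on six-dimensional vectors over the field with four elements
* `imgHom_ker` : its kernel is generated by `-g3`
* `exists_structure` : the normal subgroups of the image; `image_core` : no normal 2-subgroup
-/

set_option autoImplicit false
set_option maxRecDepth 100000
open Cfsg
open scoped Matrix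

namespace Cfsg.Agent.MonsterThree

open Leech MonsterLattice StabCert SUSixUFour SUSixUFour.Cert Cfsg.Agent.Unitary Cfsg.Agent.U62Cover

theorem qe_inj : ∀ a < 4, ∀ b < 4, qe 2 1 1 a = qe 2 1 1 b → a = b := by decide +kernel

theorem qcode_inj {a b : ℕ} (ha : a < 4096) (hb : b < 4096) (h : qcode a = qcode b) : a = b := by
  have hd : ∀ j : Fin 6, a / 4 ^ j.val % 4 = b / 4 ^ j.val % 4 := fun j =>
    qe_inj _ (Nat.mod_lt _ (by norm_num)) _ (Nat.mod_lt _ (by norm_num)) (congrFun h j)
  have h0 := hd 0; have h1 := hd 1; have h2 := hd 2; have h3 := hd 3; have h4 := hd 4; have h5 := hd 5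
  norm_num at h0 h1 h2 h3 h4 h5
  omega

theorem qcode_add (a b : ℕ) : qcode (a ^^^ b) = qcode a + qcode b := by
  funext j
  show qe 2 1 1 _ = qe 2 1 1 _ + qe 2 1 1 _
  rw [← qcode_xor _ (Nat.mod_lt _ (by norm_num)) _ (Nat.mod_lt _ (by norm_num))]
  congr 1
  have key : ∀ n : ℕ, n / 4 ^ j.val % 4 = (n >>> (2 * j.val)) &&& 3 := fun n => by
    rw [Nat.shiftRight_eq_div_pow, pow_mul, show (2 : ℕ) ^ 2 = 4 from rfl,
      show (3 : ℕ) = 2 ^ 2 - 1 from rfl, Nat.and_two_pow_sub_one_eq_mod]
  rw [key, key, key, Nat.shiftRight_xor_distrib, Nat.and_xor_distrib_right]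

theorem qcode_zero : qcode 0 = 0 := by
  funext j
  show qe 2 1 1 _ = 0
  rw [Nat.zero_div, Nat.zero_mod]
  decide +kernel

/-- The field with four elements. -/
abbrev F4 : Type := GaloisField 2 2

noncomputable instance : Fintype F4 := Fintype.ofFinite _

theorem card_F4 : Fintype.card F4 = 4 := by
  rw [← Nat.card_eq_fintype_card, GaloisField.card 2 2 (by norm_num)]; norm_num

/-- The map onto the field. -/
noncomputable def phi : M4 →+* F4 := (exists_hom_four card_F4).choose

theorem phi_star : ∀ z, phi (star z) = phi z ^ 2 := (exists_hom_four card_F4).choose_spec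

/-- The six-dimensional vector of a code. -/
noncomputable def vcode (n : Fin 4096) : Fin 6 → F4 := fun i => phi (qcode n i)

theorem vcode_bijective : Function.Bijective vcode := by
  refine (Fintype.bijective_iff_injective_and_card _).2 ⟨fun a b h => ?_, ?_⟩
  · exact Fin.ext (qcode_inj a.2 b.2 (funext fun i => phi_injective phi (congrFun h i)))
  · rw [Fintype.card_fun, card_F4, Fintype.card_fin, Fintype.card_fin]; norm_num

/-- The codes as vectors. -/
noncomputable def vecEquiv : Fin 4096 ≃ (Fin 6 → F4) := Equiv.ofBijective vcode vcode_bijective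

/-- The action on six-dimensional vectors. -/
noncomputable def imgHom : cent3 →* Equiv.Perm (Fin 6 → F4) :=
  (Equiv.permCongrHom vecEquiv).toMonoidHom.comp rho

theorem imgHom_code (η : cent3) (n : Fin 4096) : imgHom η (vecEquiv n) = vecEquiv (rho η n) := by
  show vecEquiv (rho η (vecEquiv.symm (vecEquiv n))) = _
  rw [Equiv.symm_apply_apply]

theorem imgHom_eq_one {η : cent3} : imgHom η = 1 ↔ ∀ n < 4096, Cg ((η : Co0) • cls n) (cls n) := by
  rw [← rho_eq_one, imgHom, MonoidHom.comp_apply]
  exact (Equiv.permCongrHom vecEquiv).map_eq_one_iff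

theorem fold_bits : ∀ n < 4096,
    (List.range 12).foldr (fun b a => if n.testBit b then 2 ^ b ^^^ a else a) 0 = n := by
  decide +kernel

theorem mulVec_qcode_bit {k b : ℕ} (hk : k < 14) (hb : b < 12) :
    m6 k *ᵥ qcode (2 ^ b) = qcode (imgCode k b) := by
  funext i
  have h := g6Chk_eq
  simp only [g6Chk, List.all_eq_true, List.mem_range, decide_eq_true_eq] at h
  have h' := h k hk b hb i (List.mem_finRange i)
  rw [← h', Matrix.mulVec, dotProduct, ← List.ofFn_eq_map, List.sum_ofFn]

theorem mulVec_qcode {k n : ℕ} (hk : k < 14) (hn : n < 4096) :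
    m6 k *ᵥ qcode n = qcode (appC k n) := by
  have key : ∀ l : List ℕ, (∀ b ∈ l, b < 12) →
      m6 k *ᵥ qcode (l.foldr (fun b a => if n.testBit b then 2 ^ b ^^^ a else a) 0) =
        qcode (l.foldr (fun b a => if n.testBit b then imgCode k b ^^^ a else a) 0) := by
    intro l
    induction l with
    | nil => intro _; simp [qcode_zero]
    | cons b l ih =>
      intro h
      have ih' := ih fun x hx => h x (List.mem_cons_of_mem _ hx)
      simp only [List.foldr_cons]
      by_cases ht : n.testBit b = true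
      · rw [if_pos ht, if_pos ht, qcode_add, qcode_add, Matrix.mulVec_add, ih',
          mulVec_qcode_bit hk (h b List.mem_cons_self)]
      · rw [if_neg ht, if_neg ht, ih']
  have := key (List.range 12) fun b hb => List.mem_range.1 hb
  rwa [fold_bits n hn] at this

/-- A generator of `3.U4(3)`. -/
noncomputable def gK (k : ℕ) : S6 F4 := g6el card_F4 phi phi_star k

/-- The subgroup `3.U4(3)`. -/
noncomputable def KK : Subgroup (S6 F4) := K1 card_F4 phi phi_star

theorem vecHom_injective : Function.Injective (vecHom : S6 F4 → Equiv.Perm (Fin 6 → F4)) := by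
  intro g h e
  refine Subtype.ext (Subtype.ext ?_)
  ext i j
  have := congrFun (Equiv.Perm.ext_iff.1 e (Pi.single j 1)) i
  rw [vecHom_apply, vecHom_apply, Matrix.mulVec_single_one, Matrix.mulVec_single_one] at this
  exact this

theorem imgHom_mat {k : ℕ} (hk : k < 14) : imgHom (matC k) = vecHom (gK k) := by
  refine Equiv.ext fun v => ?_
  obtain ⟨n, rfl⟩ := vecEquiv.surjective v
  rw [imgHom_code]
  funext i
  show phi (qcode (act (matC k) n) i) = _
  rw [act_mat (by omega) n, ← mulVec_qcode hk n.2, vecHom_apply]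
  show phi (∑ l, m6 k i l * qcode n l) = ∑ l, ent (gK k) i l * phi (qcode n l)
  rw [map_sum]
  exact Finset.sum_congr rfl fun l _ => by rw [map_mul, gK, g6el_ent _ _ _ hk]

/-- The image of `3.U4(3)`. -/
noncomputable def Kimg : Subgroup (Equiv.Perm (Fin 6 → F4)) := KK.map vecHom

theorem Kimg_le : Kimg ≤ imgHom.range := by
  rw [Kimg, KK, K1, sub, MonoidHom.map_closure, Subgroup.closure_le]
  rintro _ ⟨_, ⟨k, hk, rfl⟩, rfl⟩
  exact ⟨matC k, imgHom_mat (List.mem_range.1 hk)⟩

/-- The scalar. -/
noncomputable def scal : Equiv.Perm (Fin 6 → F4) := imgHom (matC 8)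

theorem gK_eight : gK 8 ∈ Z6 F4 := by
  have hent : ∀ i j, ent (gK 8) i j = if i = j then phi (qe 2 1 1 2) else 0 := fun i j => by
    rw [gK, g6el_ent _ _ _ (by norm_num), m6_eight, apply_ite phi, map_zero]
  exact mem_Z6_of_const (mem_Dg.2 fun i j h => by rw [hent, if_neg h]) fun i => by simp [hent]

theorem scal_mem : scal ∈ Kimg :=
  ⟨gK 8, g6el_mem _ _ _ (by norm_num), (imgHom_mat (by norm_num)).symm⟩

theorem scal_comm {x : Equiv.Perm (Fin 6 → F4)} (hx : x ∈ Kimg) : x * scal = scal * x := by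
  obtain ⟨g, -, rfl⟩ := hx
  rw [scal, imgHom_mat (by norm_num), ← map_mul, ← map_mul, Subgroup.mem_center_iff.1 gK_eight.2 g]

theorem outer_not_comm : imgHom (matC 14) * scal ≠ scal * imgHom (matC 14) := by
  intro h
  rw [scal, ← map_mul, ← map_mul] at h
  have h' := Equiv.Perm.ext_iff.1 h (vecEquiv ⟨1, by norm_num⟩)
  rw [imgHom_code, imgHom_code] at h'
  have h2 := congrArg Fin.val (vecEquiv.injective h')
  rw [rho_apply, rho_apply, act_mul, act_mul, act_mat (by norm_num), act_mat (by norm_num),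
    act_mat (by norm_num), act_mat (by norm_num)] at h2
  exact outer_chk h2

/-- The field with nine elements. -/
abbrev F9 : Type := GaloisField 3 2

instance : Fact (Nat.Prime 3) := ⟨Nat.prime_three⟩

noncomputable instance : Fintype F9 := Fintype.ofFinite _

theorem card_F9 : Fintype.card F9 = 9 := by
  rw [← Nat.card_eq_fintype_card, GaloisField.card 3 2 (by norm_num)]; norm_num

theorem natCard_Kimg : Nat.card Kimg = 9797760 := by
  obtain ⟨ψ, hψ⟩ := exists_hom_nine card_F9
  rw [Kimg, ← (KK.equivMapOfInjective _ vecHom_injective).toEquiv |> Nat.card_congr]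
  exact (exists_hom_PSU card_F4 phi phi_star (card_F9.trans (by norm_num)) ψ hψ).1

theorem orderOf_negG3 : orderOf (negOne * g3) = 6 := by
  have hc : Commute negOne g3 := ((Subgroup.mem_center_iff.1 negOne_mem_center) g3).symm
  have h2 : orderOf negOne = 2 := by
    refine orderOf_eq_prime (co0_ext fun v => by rw [pow_two, mul_smul, negOne_smul, negOne_smul, neg_neg, one_smul])
      fun e => ?_
    have h := congrArg (fun g : Co0 => ((g • bas 0 : leechLattice) : GolayPt → ℤ)) e
    simp only [negOne_smul, one_smul, AddSubgroup.coe_neg, coe_bas (show 0 < 12 by norm_num)] at h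
    exact (by decide +kernel : -(vOf (basL 0)) ≠ vOf (basL 0)) h
  have h3 : orderOf g3 = 3 := by
    refine orderOf_eq_prime g3_cube fun e => ?_
    have hz : threeM = 1 :=
      permHom_disjoint (show permHom threeM ∈ signs by rw [show permHom threeM = 1 from e]; exact one_mem _)
    have := congrArg (fun m : M24 => Golay.idx (m.1 (Golay.pt 23))) hz
    simp only [idx_threeM, OneMemClass.coe_one, Equiv.Perm.one_apply] at this
    rw [Golay.idx_pt (by norm_num), repA_base.1] at this
    norm_num at this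
  rw [hc.orderOf_mul_eq_mul_orderOf_of_coprime (by rw [h2, h3]; norm_num), h2, h3]

theorem negG3_mem : negOne * g3 ∈ cent3 :=
  mem_cent3.2 (by
    rw [mul_assoc, ← mul_assoc g3, (Subgroup.mem_center_iff.1 negOne_mem_center) g3, mul_assoc])

theorem negG3_ker : imgHom ⟨negOne * g3, negG3_mem⟩ = 1 :=
  imgHom_eq_one.2 fun n _ => by
    show Cg ((negOne * g3) • cls n) (cls n)
    rw [mul_smul, g3_cls, negOne_smul]
    exact (MonsterLattice.Cg.neg _).symm

theorem counts : Nat.card imgHom.range = 19595520 ∧ Nat.card imgHom.ker = 6 := by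
  have hle : Nat.card (Kimg.subgroupOf imgHom.range) = 9797760 := by
    rw [Nat.card_congr (Subgroup.subgroupOfEquivOfLe Kimg_le).toEquiv, natCard_Kimg]
  have hi := (Kimg.subgroupOf imgHom.range).card_mul_index
  rw [hle] at hi
  have hne : (Kimg.subgroupOf imgHom.range).index ≠ 1 := fun h1 => by
    rw [Subgroup.index_eq_one, Subgroup.subgroupOf_eq_top] at h1
    exact outer_not_comm (scal_comm (h1 ⟨matC 14, rfl⟩))
  have hne0 : (Kimg.subgroupOf imgHom.range).index ≠ 0 := Subgroup.index_ne_zero_of_finite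
  have hker := imgHom.ker.card_mul_index
  rw [Subgroup.index_ker] at hker
  have h6 : 6 ∣ Nat.card imgHom.ker := by
    have h := orderOf_dvd_natCard (⟨⟨negOne * g3, negG3_mem⟩, negG3_ker⟩ : imgHom.ker)
    rwa [← orderOf_injective (imgHom.ker.subtype) Subtype.val_injective,
      ← orderOf_injective (cent3.subtype) Subtype.val_injective,
      show (cent3.subtype (imgHom.ker.subtype ⟨⟨negOne * g3, negG3_mem⟩, negG3_ker⟩)) = negOne * g3 from rfl,
      orderOf_negG3] at h
  have hb := natCard_cent3_le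
  rw [← hker] at hb
  have hpos : 0 < Nat.card imgHom.ker := Nat.card_pos
  have h6' : 6 ≤ Nat.card imgHom.ker := Nat.le_of_dvd hpos h6
  have h2 : 19595520 ≤ Nat.card imgHom.range := by
    rw [← hi]
    have : 2 ≤ (Kimg.subgroupOf imgHom.range).index := by omega
    omega
  constructor
  · nlinarith
  · nlinarith

theorem imgHom_ker {η : cent3} (h : imgHom η = 1) :
    ∃ j : ℕ, (η : Co0) = g3 ^ j ∨ (η : Co0) = negOne * g3 ^ j := by
  have hk : Nat.card (Subgroup.zpowers (⟨negOne * g3, negG3_mem⟩ : cent3)) = 6 := by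
    rw [Nat.card_zpowers, ← orderOf_injective cent3.subtype Subtype.val_injective]
    exact orderOf_negG3
  have he : Subgroup.zpowers (⟨negOne * g3, negG3_mem⟩ : cent3) = imgHom.ker :=
    Subgroup.eq_of_le_of_card_ge (Subgroup.zpowers_le.2 negG3_ker) (by rw [hk, counts.2])
  obtain ⟨j, hj⟩ := (mem_powers_iff_mem_zpowers.2 (he ▸ MonoidHom.mem_ker.2 h :
    η ∈ Subgroup.zpowers (⟨negOne * g3, negG3_mem⟩ : cent3)) :
      η ∈ Submonoid.powers (⟨negOne * g3, negG3_mem⟩ : cent3))
  have hj' : (η : Co0) = negOne ^ j * g3 ^ j := by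
    rw [← hj, SubmonoidClass.coe_pow, ← (show Commute negOne g3 from
      ((Subgroup.mem_center_iff.1 negOne_mem_center) g3).symm).mul_pow]
  refine ⟨j, ?_⟩
  have h2 : negOne * negOne = 1 := co0_ext fun v => by rw [mul_smul, negOne_smul, negOne_smul, neg_neg, one_smul]
  rcases Nat.even_or_odd j with ⟨m, rfl⟩ | ⟨m, rfl⟩
  · left; rw [hj', ← two_mul, pow_mul negOne, pow_two, h2, one_pow, one_mul]
  · right; rw [hj', pow_succ negOne, pow_mul negOne, pow_two, h2, one_pow, one_mul]

theorem index_Kimg : (Kimg.subgroupOf imgHom.range).index = 2 := by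
  have hi := (Kimg.subgroupOf imgHom.range).card_mul_index
  rw [Nat.card_congr (Subgroup.subgroupOfEquivOfLe Kimg_le).toEquiv, natCard_Kimg, counts.1] at hi
  omega

/-- The normal subgroups of the image. -/
theorem exists_structure : ∃ (M N : Subgroup imgHom.range) (_ : N.Normal),
    N ≤ M ∧ M.Normal ∧ Nat.card N = 3 ∧ M.index = 2 ∧
      Nonempty (M ⧸ N.subgroupOf M ≃* Cfsg.PSU 4 F9 3) ∧
      ∀ P : Subgroup imgHom.range, P.Normal → IsPGroup 2 P → P = ⊥ := by
  obtain ⟨ψ, hψ⟩ := exists_hom_nine card_F9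
  have hF9 : Fintype.card F9 = 3 ^ 2 := card_F9.trans (by norm_num)
  obtain ⟨-, f, hfs, hfk⟩ := exists_hom_PSU card_F4 phi phi_star hF9 ψ hψ
  haveI := isSimpleGroup_PSU (F := F9) (n := 4) hF9 (Or.inl le_rfl)
  haveI : Finite (S6 F4) := finite_S6
  set M : Subgroup imgHom.range := Kimg.subgroupOf imgHom.range with hMdef
  haveI hMn : M.Normal := Subgroup.normal_of_index_eq_two index_Kimg
  let eM : KK ≃* M :=
    (KK.equivMapOfInjective _ vecHom_injective).trans (Subgroup.subgroupOfEquivOfLe Kimg_le).symm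
  let g : M →* Cfsg.PSU 4 F9 3 := f.comp eM.symm.toMonoidHom
  have hgs : Function.Surjective g := hfs.comp eM.symm.surjective
  have hcardP : Nat.card (Cfsg.PSU 4 F9 3) = 3265920 := by
    have h := Unitary.card_PSU (n := 4) hF9 (by norm_num)
    simp [Finset.prod_range_succ, Nat.even_iff] at h
    omega
  have hcardM : Nat.card M = 9797760 := by
    rw [hMdef, Nat.card_congr (Subgroup.subgroupOfEquivOfLe Kimg_le).toEquiv, natCard_Kimg]
  have hgk : Nat.card g.ker = 3 := by
    have h := g.ker.card_mul_index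
    rw [Subgroup.index_ker, MonoidHom.range_eq_top.2 hgs, Subgroup.card_top, hcardP, hcardM] at h
    omega
  have hkc : g.ker = Subgroup.center M := by
    refine le_antisymm (fun x hx => ?_) fun x hx => ?_
    · refine Subgroup.mem_center_iff.2 fun y => eM.symm.injective (Subtype.ext ?_)
      have h := ((hfk _).1 (MonoidHom.mem_ker.1 hx)).2
      rw [map_mul, map_mul, Subgroup.coe_mul, Subgroup.coe_mul]
      exact Subgroup.mem_center_iff.1 h _
    · have hz : g x ∈ Subgroup.center (Cfsg.PSU 4 F9 3) := Subgroup.mem_center_iff.2 fun v => by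
        obtain ⟨y, rfl⟩ := hgs v
        rw [← map_mul, ← map_mul, Subgroup.mem_center_iff.1 hx y]
      rcases (inferInstance : (Subgroup.center (Cfsg.PSU 4 F9 3)).Normal).eq_bot_or_eq_top with hb | hb
      · rw [hb, Subgroup.mem_bot] at hz
        exact MonoidHom.mem_ker.2 hz
      · exfalso
        haveI : IsMulCommutative (Cfsg.PSU 4 F9 3) :=
          ⟨⟨fun u v => Subgroup.mem_center_iff.1 (show v ∈ Subgroup.center _ from hb ▸ Subgroup.mem_top _) u⟩⟩
        open scoped IsMulCommutative in
          have hp := IsSimpleGroup.prime_card (α := Cfsg.PSU 4 F9 3)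
        rw [hcardP] at hp
        exact absurd (hp.eq_one_or_self_of_dvd 2 (by norm_num)) (by norm_num)
  let N : Subgroup imgHom.range := g.ker.map M.subtype
  haveI hNn : N.Normal := by
    rw [show N = (Subgroup.center M).map M.subtype by rw [← hkc]]
    infer_instance
  have hNM : N ≤ M := Subgroup.map_subtype_le _
  have hNsub : N.subgroupOf M = g.ker := Subgroup.comap_map_eq_self_of_injective Subtype.val_injective _
  refine ⟨M, N, hNn, hNM, hMn, ?_, index_Kimg,
    ⟨(QuotientGroup.quotientMulEquivOfEq hNsub).trans (QuotientGroup.quotientKerEquivOfSurjective g hgs)⟩,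
    fun P hP hPp => ?_⟩
  · exact (Nat.card_congr (g.ker.equivMapOfInjective _ Subtype.val_injective).toEquiv.symm).trans hgk
  haveI : Fact (Nat.Prime 2) := ⟨Nat.prime_two⟩
  have hPM : ∀ x ∈ P, x ∈ M → x = 1 := by
    intro x hx hxM
    have hn : (P.subgroupOf M).Normal := inferInstance
    haveI := hn.map g hgs
    have hp2 : IsPGroup 2 ((P.subgroupOf M).map g) :=
      (hPp.comap_of_injective _ Subtype.val_injective).map _
    rcases (inferInstance : ((P.subgroupOf M).map g).Normal).eq_bot_or_eq_top with hb | hb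
    · have h1 : (⟨x, hxM⟩ : M) ∈ g.ker := (Subgroup.map_eq_bot_iff _).1 hb hx
      obtain ⟨a, ha⟩ := IsPGroup.iff_orderOf.1 hPp ⟨x, hx⟩
      have h3 : orderOf (⟨x, hxM⟩ : M) ∣ 3 := hgk ▸ Subgroup.orderOf_dvd_natCard _ h1
      rw [Subgroup.orderOf_mk] at ha h3
      rw [ha] at h3
      have : Nat.gcd (2 ^ a) 3 = 1 := Nat.Coprime.pow_left a (by norm_num)
      rw [Nat.gcd_eq_left h3] at this
      exact orderOf_eq_one_iff.1 (ha.trans this)
    · exfalso
      obtain ⟨a, ha⟩ := IsPGroup.iff_card.1 hp2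
      rw [hb, Subgroup.card_top, hcardP] at ha
      have : 3 ∣ 2 ^ a := ha ▸ (by norm_num)
      exact absurd (Nat.prime_three.dvd_of_dvd_pow this) (by norm_num)
  by_contra hne
  obtain ⟨p, hp, hp1⟩ := (Subgroup.ne_bot_iff_exists_ne_one (H := P)).1 hne |>
    fun ⟨x, hx⟩ => (⟨x.1, x.2, fun e => hx (Subtype.ext e)⟩ : ∃ p, p ∈ P ∧ p ≠ 1)
  have hpM : p ∉ M := fun h => hp1 (hPM p hp h)
  have hcent : ∀ a : imgHom.range, a * p * a⁻¹ = p := by
    intro a
    have h1 : a * p * a⁻¹ ∈ P := hP.conj_mem p hp a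
    have h2 : a * p * a⁻¹ * p⁻¹ ∈ P := mul_mem h1 (inv_mem hp)
    have h3 : a * p * a⁻¹ * p⁻¹ ∈ M := by
      have key : ∀ x y : imgHom.range, (x * y ∈ M ↔ (x ∈ M ↔ y ∈ M)) :=
        fun x y => Subgroup.mul_mem_iff_of_index_two index_Kimg
      rw [key, inv_mem_iff, key, key, inv_mem_iff]
      tauto
    exact mul_inv_eq_one.1 (hPM _ h2 h3)
  let w : imgHom.range := ⟨scal, matC 8, rfl⟩
  let o : imgHom.range := ⟨imgHom (matC 14), matC 14, rfl⟩
  have hwo : o * w ≠ w * o := fun e => outer_not_comm (congrArg Subtype.val e)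
  have hwp : w * p = p * w := mul_inv_eq_iff_eq_mul.1 (hcent w)
  have hMw : ∀ m ∈ M, m * w = w * m := fun m hm => Subtype.ext (scal_comm hm)
  refine hwo ?_
  have key : ∀ x y : imgHom.range, (x * y ∈ M ↔ (x ∈ M ↔ y ∈ M)) :=
    fun x y => Subgroup.mul_mem_iff_of_index_two index_Kimg
  have hoM : o ∉ M := fun h => hwo (hMw o h)
  have hm : o * p ∈ M := (key o p).2 (iff_of_false hoM hpM)
  have h1 := hMw _ hm
  rw [mul_assoc, ← hwp, ← mul_assoc, ← mul_assoc] at h1
  exact mul_right_cancel h1

end Cfsg.Agent.MonsterThree
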