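import Cfsg.Agent.Lib.MonsterThree.Image
import Cfsg.Agent.Lib.MonsterThree.Frame

/-!
# The centraliser of the element of order three inside C(z) and inside Q

* `Ctx` : a setting with `eightVec none ↦ s` and `b ↦ g3`
* `Ctx.mem_R0_iff`, `Ctx.natCard_R0` : `Q ∩ C(b)` consists of the lifts of the fixed classes, of order 2^13
* `Ctx.θ` : the map of `C(z) ∩ C(b)` onto 3.U4(3).2;  `Ctx.θ_ker`
* `Ctx.fusion` : z is conjugate in `C(b)` to another element of `Q ∩ C(b)`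
-/

set_option autoImplicit false
open Cfsg
open scoped commutatorElement

namespace Cfsg.Agent.MonsterThree

open Leech MonsterLattice Monster LargeExtraspecial

/-- A setting of Monster type adapted to an element of order three. -/
structure Ctx (G : Type*) [Group G] where
  z : G
  Q : Subgroup G
  M : Setting Q z
  s : G
  hs : M.rel (eightVec none) s
  b : G
  hbz : b ∈ Subgroup.centralizer ({z} : Set G)
  hbs : b * s = s * b
  hb3 : orderOf b = 3
  hκ : M.κ ⟨b, hbz⟩ = QuotientGroup.mk g3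
  hn : ∃ n : G, n * z * n⁻¹ = s ∧ n * s * n⁻¹ = z ∧ n * b * n⁻¹ ∈ Subgroup.zpowers b

theorem negOne_mul_negOne : negOne * negOne = 1 :=
  co0_ext fun v => by rw [mul_smul, negOne_smul, negOne_smul, neg_neg, one_smul]

theorem negOne_ne : negOne ≠ 1 := fun e => by
  have h := congrArg (fun g : Co0 => ((g • eightVec none : leechLattice) : GolayPt → ℤ) none) e
  simp only [negOne_smul, one_smul, AddSubgroup.coe_neg, Pi.neg_apply, coe_eightVec,
    Pi.single_eq_same] at h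
  omega

namespace Ctx

variable {G : Type*} [Group G] (X : Ctx G)

/-- The element as an element of `C(z)`. -/
def bC : Subgroup.centralizer ({X.z} : Set G) := ⟨X.b, X.hbz⟩

theorem bz : X.b * X.z = X.z * X.b := Subgroup.mem_centralizer_singleton_iff.1 X.hbz

theorem z_comm : X.z * X.b = X.b * X.z := X.bz.symm

theorem b_cube : X.b ^ 3 = 1 := by rw [← X.hb3, pow_orderOf_eq_one]

theorem eq_one_of_sq {x : G} (hx : x ∈ Subgroup.zpowers X.b) (h : x * x = 1) : x = 1 := by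
  have h2 : orderOf x ∣ 2 := orderOf_dvd_of_pow_eq_one (by rw [pow_two]; exact h)
  have h3 : orderOf x ∣ 3 := X.hb3 ▸ orderOf_dvd_of_mem_zpowers hx
  exact orderOf_eq_one_iff.1 (Nat.dvd_one.1 (by simpa using Nat.dvd_gcd h2 h3))

theorem not_mem_Q {x : G} (hx : x ∈ Subgroup.zpowers X.b) (hQ : x ∈ X.Q) : x = 1 := by
  obtain ⟨k, hk⟩ := LargeExtraspecial.isPGroup_of_extraspecial X.M.extra ⟨x, hQ⟩
  have h2 : orderOf x ∣ 2 ^ k := orderOf_dvd_of_pow_eq_one (by simpa using congrArg Subtype.val hk)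
  have h3 : orderOf x ∣ 3 := X.hb3 ▸ orderOf_dvd_of_mem_zpowers hx
  refine orderOf_eq_one_iff.1 (Nat.dvd_one.1 ?_)
  have h := Nat.dvd_gcd h3 h2
  rwa [Nat.Coprime.gcd_eq_one (Nat.Coprime.pow_right k (by norm_num : Nat.Coprime 3 2))] at h

theorem fix_of_comm {v : leechLattice} {x : G} (hx : X.M.rel v x) (hc : x * X.b = X.b * x) :
    Fix3 v := by
  have h1 := X.M.rel_equiv g3 X.bC X.hκ.symm hx
  rw [show ((X.bC : Subgroup.centralizer ({X.z} : Set G)) : G) = X.b from rfl, ← hc,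
    mul_inv_cancel_right] at h1
  exact (X.M.rel_cg h1 hx).2 (Or.inl rfl)

theorem comm_of_fix {v : leechLattice} {x : G} (hx : X.M.rel v x) (hf : Fix3 v) :
    x * X.b = X.b * x := by
  have h1 := X.M.rel_equiv g3 X.bC X.hκ.symm hx
  rw [show ((X.bC : Subgroup.centralizer ({X.z} : Set G)) : G) = X.b from rfl] at h1
  rcases (X.M.rel_cg h1 hx).1 hf with e | e
  · exact (eq_mul_inv_iff_mul_eq.1 e)
  · have h2 : (X.b * X.b) * x * (X.b * X.b)⁻¹ = x := by
      have hz : X.b * X.z * X.b⁻¹ = X.z := by rw [X.bz]; group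
      have e' : X.b * x * X.b⁻¹ = x * X.z := by
        have := congrArg (· * X.z) e
        simp only [mul_assoc, X.M.D.z_sq, mul_one] at this
        simp only [mul_assoc, this]
      calc (X.b * X.b) * x * (X.b * X.b)⁻¹ = X.b * (X.b * x * X.b⁻¹) * X.b⁻¹ := by group
        _ = X.b * (x * X.z) * X.b⁻¹ := by rw [e']
        _ = (X.b * x * X.b⁻¹) * (X.b * X.z * X.b⁻¹) := by group
        _ = x := by rw [hz, e', mul_assoc, X.M.D.z_sq, mul_one]
    have h3 : Commute (X.b * X.b) x := mul_inv_eq_iff_eq_mul.1 h2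
    have h4 : Commute ((X.b * X.b) ^ 2) x := h3.pow_left 2
    rw [show (X.b * X.b) ^ 2 = X.b ^ 3 * X.b by rw [← pow_two, ← pow_mul, ← pow_succ], X.b_cube,
      one_mul] at h4
    exact h4.eq.symm

/-- The chosen lift. -/
noncomputable def lift (n : ℕ) : G := (X.M.exists_rel (cls n)).choose

theorem rel_lift (n : ℕ) : X.M.rel (cls n) (X.lift n) := (X.M.exists_rel (cls n)).choose_spec

theorem mem_R0_iff {x : G} : x ∈ X.Q ⊓ Subgroup.centralizer ({X.b} : Set G) ↔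
    ∃ n < 4096, X.M.rel (cls n) x := by
  constructor
  · rintro ⟨hQ, hc⟩
    obtain ⟨v, hv⟩ := X.M.rel_surj x hQ
    obtain ⟨n, hn, hcg⟩ :=
      exists_code (X.fix_of_comm hv (Subgroup.mem_centralizer_singleton_iff.1 hc))
    exact ⟨n, hn, X.M.rel_of_cg hv hcg⟩
  · rintro ⟨n, hn, h⟩
    exact ⟨X.M.rel_mem h, Subgroup.mem_centralizer_singleton_iff.2 (X.comm_of_fix h (fix_cls n))⟩

theorem natCard_R0 :
    Nat.card (X.Q ⊓ Subgroup.centralizer ({X.b} : Set G) : Subgroup G) = 8192 := by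
  have hmem : ∀ (n : Fin 4096) (e : Bool),
      (if e then X.lift n * X.z else X.lift n) ∈ X.Q ⊓ Subgroup.centralizer ({X.b} : Set G) := fun n e =>
    X.mem_R0_iff.2 ⟨n, n.2, by cases e <;> simp [X.rel_lift, X.M.rel_z (X.rel_lift n)]⟩
  let f : Fin 4096 × Bool → (X.Q ⊓ Subgroup.centralizer ({X.b} : Set G) : Subgroup G) :=
    fun p => ⟨_, hmem p.1 p.2⟩
  have hrel : ∀ p, X.M.rel (cls p.1) (f p) := fun ⟨n, e⟩ => by
    cases e <;> simp [f, X.rel_lift, X.M.rel_z (X.rel_lift n)]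
  have hf : Function.Bijective f := by
    constructor
    · rintro ⟨n, e⟩ ⟨m, e'⟩ h
      have hn : n = m := Fin.ext <| code_unique n.2 m.2 <| by
        refine (X.M.rel_cg (hrel (n, e)) (hrel (m, e'))).2 (Or.inl ?_)
        rw [h]
      subst hn
      have h' := congrArg Subtype.val h
      cases e <;> cases e' <;> simp [f, X.M.D.z_ne] at h' ⊢
    · rintro ⟨x, hx⟩
      obtain ⟨n, hn, h⟩ := X.mem_R0_iff.1 hx
      rcases (X.M.rel_cg (X.rel_lift n) h).1 (cg_refl _) with e | e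
      · exact ⟨(⟨n, hn⟩, false), Subtype.ext e.symm⟩
      · exact ⟨(⟨n, hn⟩, true), Subtype.ext e.symm⟩
  rw [← Nat.card_congr (Equiv.ofBijective f hf)]
  simp

theorem center_R0 [Finite G] {x : G} (hx : x ∈ X.Q ⊓ Subgroup.centralizer ({X.b} : Set G))
    (hc : ∀ y ∈ X.Q ⊓ Subgroup.centralizer ({X.b} : Set G), y * x = x * y) : x = 1 ∨ x = X.z := by
  obtain ⟨n, hn, h⟩ := X.mem_R0_iff.1 hx
  have h0 : n = 0 := by
    refine Nat.eq_of_testBit_eq fun i => ?_
    rw [Nat.zero_testBit]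
    by_cases hi : i < 12
    · obtain ⟨hd, -⟩ := dual_ok i hi i hi
      have := (X.M.comm_iff h (X.rel_lift (dualCodes.getD i 0))).1
        (hc _ (X.mem_R0_iff.2 ⟨_, hd, X.rel_lift _⟩)).symm
      have e := dot_dual n hi
      cases ht : n.testBit i
      · rfl
      · rw [if_pos ht] at e; omega
    · exact Nat.testBit_lt_two_pow (lt_of_lt_of_le hn
        (show 2 ^ 12 ≤ 2 ^ i from Nat.pow_le_pow_right (by norm_num) (by omega)))
  subst h0
  rw [cls_zero] at h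
  exact X.M.rel_zero h

/-- `C(z) ∩ C(b)`. -/
def T : Subgroup G :=
  Subgroup.centralizer ({X.z} : Set G) ⊓ Subgroup.centralizer ({X.b} : Set G)

theorem exists_eta (t : X.T) :
    ∃ η : cent3, (QuotientGroup.mk (η : Co0) : Spor.Co1) = X.M.κ ⟨t, t.2.1⟩ := by
  obtain ⟨η, hη⟩ := QuotientGroup.mk_surjective (X.M.κ ⟨t, t.2.1⟩)
  refine ⟨⟨η, ?_⟩, hη⟩
  have h1 : (QuotientGroup.mk (η * g3 * η⁻¹ * g3⁻¹) : Spor.Co1) = 1 := by
    rw [QuotientGroup.mk_mul, QuotientGroup.mk_mul, QuotientGroup.mk_mul, QuotientGroup.mk_inv,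
      QuotientGroup.mk_inv, hη, ← X.hκ, ← map_inv, ← map_inv, ← map_mul, ← map_mul, ← map_mul]
    convert map_one X.M.κ using 2
    refine Subtype.ext ?_
    show (t : G) * X.b * (t : G)⁻¹ * X.b⁻¹ = 1
    rw [Subgroup.mem_centralizer_singleton_iff.1 t.2.2]
    group
  rcases Leech.center_eq ((QuotientGroup.eq_one_iff _).1 h1) with e | e
  · exact mem_cent3.2 (mul_inv_eq_iff_eq_mul.1 (mul_inv_eq_one.1 e))
  · exfalso
    have h2 : η * g3 * η⁻¹ = negOne * g3 := mul_inv_eq_iff_eq_mul.1 e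
    have h3 := congrArg (· ^ 3) h2
    simp only [conj_pow, g3_cube, mul_one, mul_inv_cancel] at h3
    rw [(show Commute negOne g3 from
      ((Subgroup.mem_center_iff.1 Leech.negOne_mem_center) g3).symm).mul_pow, g3_cube, mul_one,
      show negOne ^ 3 = negOne * negOne * negOne by rw [pow_succ, pow_two], negOne_mul_negOne,
      one_mul] at h3
    exact negOne_ne h3.symm

theorem imgHom_center {η ζ : cent3}
    (h : (QuotientGroup.mk (η : Co0) : Spor.Co1) = QuotientGroup.mk (ζ : Co0)) :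
    imgHom η = imgHom ζ := by
  have h1 : ((η⁻¹ * ζ : cent3) : Co0) ∈ Subgroup.center Co0 := QuotientGroup.eq.1 h
  have h2 : imgHom (η⁻¹ * ζ) = 1 := by
    refine imgHom_eq_one.2 fun n hn => ?_
    rcases Leech.center_eq h1 with e | e <;> rw [e]
    · rw [one_smul]; exact cg_refl _
    · rw [negOne_smul]; exact (MonsterLattice.Cg.neg _).symm
  rw [map_mul, map_inv, inv_mul_eq_one] at h2
  exact h2

/-- The map of `C(z) ∩ C(b)` onto `3.U4(3).2`. -/
noncomputable def θ : X.T →* imgHom.range :=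
  MonoidHom.mk' (fun t => imgHom.rangeRestrict (X.exists_eta t).choose) fun t u => by
    rw [← map_mul]
    refine Subtype.ext (imgHom_center ?_)
    refine (X.exists_eta (t * u)).choose_spec.trans ?_
    show _ = QuotientGroup.mk (((X.exists_eta t).choose : Co0) * ((X.exists_eta u).choose : Co0))
    rw [QuotientGroup.mk_mul, (X.exists_eta t).choose_spec, (X.exists_eta u).choose_spec, ← map_mul]
    rfl

theorem θ_eq {t : X.T} {η : cent3} (h : (QuotientGroup.mk (η : Co0) : Spor.Co1) = X.M.κ ⟨t, t.2.1⟩) :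
    X.θ t = imgHom.rangeRestrict η :=
  Subtype.ext (imgHom_center ((X.exists_eta t).choose_spec.trans h.symm))

theorem exists_T [Finite G] (η : cent3) :
    ∃ t : X.T, (QuotientGroup.mk (η : Co0) : Spor.Co1) = X.M.κ ⟨t, t.2.1⟩ := by
  haveI : Fact (Nat.Prime 3) := ⟨Nat.prime_three⟩
  haveI : Fact (Nat.Prime 2) := ⟨Nat.prime_two⟩
  obtain ⟨h, hh⟩ := X.M.exists_lift η
  set P := (Subgroup.zpowers (QuotientGroup.mk g3 : Spor.Co1)).comap X.M.κ
  have hκb : X.M.κ X.bC = QuotientGroup.mk g3 := X.hκ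
  have hconj : X.M.κ (h * X.bC * h⁻¹) = QuotientGroup.mk g3 := by
    rw [map_mul, map_mul, map_inv, ← hh, hκb, ← QuotientGroup.mk_inv,
      ← QuotientGroup.mk_mul, ← QuotientGroup.mk_mul, mem_cent3.1 η.2, mul_inv_cancel_right]
  have hPc : (Nat.card P).factorization 3 = 1 := by
    have h1 := natCard_map_mul X.M.κ P
    rw [Subgroup.map_comap_eq_self_of_surjective X.M.κ_surj, Nat.card_zpowers, mk_g3_order] at h1
    obtain ⟨n, hn⟩ := IsPGroup.iff_card.mp
      (((LargeExtraspecial.isPGroup_of_extraspecial X.M.extra).comap_subtype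
      (K := Subgroup.centralizer ({X.z} : Set G))).to_le
      (le_trans inf_le_right fun x hx => (X.M.κ_ker x).1 hx : (P ⊓ X.M.κ.ker) ≤ _))
    rw [hn] at h1
    rw [← h1]
    refine factorization_eq Nat.prime_three (by positivity) (Dvd.dvd.mul_right (by norm_num) _) ?_
    intro h9
    have := (Nat.Coprime.pow_right n (by norm_num : Nat.Coprime (3 ^ 2) 2)).dvd_of_dvd_mul_right h9
    norm_num at this
  have hbC3 : orderOf X.bC = 3 := by rw [bC, Subgroup.orderOf_mk, X.hb3]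
  obtain ⟨m, hm, hmap⟩ := exists_conj_of_card (p := 3) P
    (A := Subgroup.zpowers (h * X.bC * h⁻¹)) (B := Subgroup.zpowers X.bC)
    (Subgroup.zpowers_le.2 (Subgroup.mem_comap.2 (hconj ▸ Subgroup.mem_zpowers _)))
    (Subgroup.zpowers_le.2 (Subgroup.mem_comap.2 (hκb ▸ Subgroup.mem_zpowers _)))
    (by rw [hPc, Nat.card_zpowers, show h * X.bC * h⁻¹ = MulAut.conj h X.bC from rfl,
      MulEquiv.orderOf_eq, hbC3, pow_one])
    (by rw [hPc, Nat.card_zpowers, hbC3, pow_one])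
  have hmem : m * (h * X.bC * h⁻¹) * m⁻¹ ∈ Subgroup.zpowers X.bC :=
    hmap ▸ ⟨_, Subgroup.mem_zpowers _, rfl⟩
  obtain ⟨i, hi⟩ := Subgroup.mem_zpowers_iff.1 (Subgroup.mem_comap.1 hm)
  obtain ⟨j, hj⟩ := Subgroup.mem_zpowers_iff.1 hmem
  set h' := X.bC ^ (-i) * m * h with hh'
  have hκ' : X.M.κ h' = QuotientGroup.mk (η : Co0) := by
    rw [hh', map_mul, map_mul, map_zpow, hκb, ← hi, ← hh]
    group
  have hjb : h' * X.bC * h'⁻¹ = X.bC ^ j := by
    calc h' * X.bC * h'⁻¹ = X.bC ^ (-i) * (m * (h * X.bC * h⁻¹) * m⁻¹) * (X.bC ^ (-i))⁻¹ := by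
          rw [hh']; group
      _ = X.bC ^ j := by rw [← hj]; group
  have h3 : X.M.κ (h' * X.bC * h'⁻¹ * X.bC⁻¹) = 1 := by
    rw [map_mul, map_mul, map_mul, map_inv, map_inv, hκ', hκb,
      ← QuotientGroup.mk_inv, ← QuotientGroup.mk_mul, ← QuotientGroup.mk_mul, mem_cent3.1 η.2,
      mul_inv_cancel_right, mul_inv_cancel]
  have h4 : ((h' * X.bC * h'⁻¹ * X.bC⁻¹ : Subgroup.centralizer ({X.z} : Set G)) : G) = 1 := by
    refine X.not_mem_Q ?_ ((X.M.κ_ker _).1 h3)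
    rw [hjb, Subgroup.coe_mul, SubgroupClass.coe_zpow, Subgroup.coe_inv]
    exact mul_mem (zpow_mem (Subgroup.mem_zpowers _) _) (inv_mem (Subgroup.mem_zpowers _))
  refine ⟨⟨h', h'.2, Subgroup.mem_centralizer_singleton_iff.2 ?_⟩, hκ'.symm⟩
  exact mul_inv_eq_iff_eq_mul.1 (mul_inv_eq_one.1 h4)

theorem θ_surjective [Finite G] : Function.Surjective X.θ := by
  rintro ⟨_, η, rfl⟩
  obtain ⟨t, ht⟩ := X.exists_T η
  exact ⟨t, X.θ_eq ht⟩

theorem θ_ker {t : X.T} (h : X.θ t = 1) :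
    ∃ q ∈ X.Q ⊓ Subgroup.centralizer ({X.b} : Set G), ∃ j : ℕ, (t : G) = q * X.b ^ j := by
  obtain ⟨η, hη⟩ := X.exists_eta t
  rw [X.θ_eq hη] at h
  obtain ⟨j, hj⟩ := imgHom_ker (congrArg Subtype.val h)
  have hκt : X.M.κ ⟨t, t.2.1⟩ = X.M.κ X.bC ^ j := by
    rw [← hη, show X.M.κ X.bC = _ from X.hκ, ← QuotientGroup.mk_pow]
    rcases hj with e | e <;> rw [e]
    rw [QuotientGroup.mk_mul, (QuotientGroup.eq_one_iff _).2 Leech.negOne_mem_center, one_mul]
  refine ⟨(t : G) * (X.b ^ j)⁻¹, ⟨?_, ?_⟩, j, by group⟩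
  · have h1 : X.M.κ (⟨t, t.2.1⟩ * (X.bC ^ j)⁻¹) = 1 := by
      rw [map_mul, map_inv, map_pow, hκt, mul_inv_cancel]
    exact (X.M.κ_ker _).1 h1
  · exact Subgroup.mul_mem _ t.2.2
      (Subgroup.inv_mem _ (Subgroup.pow_mem _ (Subgroup.mem_centralizer_singleton_iff.2 rfl) j))

theorem θ_of_mem_Q {t : X.T} (h : (t : G) ∈ X.Q) : X.θ t = 1 := by
  rw [X.θ_eq (η := 1) (by rw [(X.M.κ_ker ⟨t, t.2.1⟩).2 h]; rfl), map_one]

theorem θ_b {t : X.T} (h : (t : G) = X.b) : X.θ t = 1 := by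
  rw [X.θ_eq (η := ⟨g3, mem_cent3.2 rfl⟩) (by
    rw [show (⟨(t : G), t.2.1⟩ : Subgroup.centralizer ({X.z} : Set G)) = ⟨X.b, X.hbz⟩ from
      Subtype.ext h, X.hκ])]
  refine Subtype.ext (imgHom_eq_one.2 fun n _ => ?_)
  show Cg (g3 • cls n) (cls n)
  rw [g3_cls]
  exact cg_refl _

theorem θ_of_centralizes {t : X.T}
    (h : ∀ q ∈ X.Q ⊓ Subgroup.centralizer ({X.b} : Set G), (t : G) * q = q * t) : X.θ t = 1 := by
  obtain ⟨η, hη⟩ := X.exists_eta t
  rw [X.θ_eq hη]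
  refine Subtype.ext (imgHom_eq_one.2 fun n hn => ?_)
  have h1 := X.M.rel_equiv (η : Co0) ⟨t, t.2.1⟩ hη (X.rel_lift n)
  rw [h _ (X.mem_R0_iff.2 ⟨n, hn, X.rel_lift n⟩), mul_inv_cancel_right] at h1
  exact (X.M.rel_cg h1 (X.rel_lift n)).2 (Or.inl rfl)

theorem s_mem_R0 : X.s ∈ X.Q ⊓ Subgroup.centralizer ({X.b} : Set G) :=
  ⟨X.M.rel_mem X.hs, Subgroup.mem_centralizer_singleton_iff.2 X.hbs.symm⟩

theorem s_ne : X.s ≠ 1 ∧ X.s ≠ X.z :=
  X.M.ne_of_rel X.hs (Or.inr (Or.inr (sqNorm_eightVec none)))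

theorem exists_noncomm [Finite G] :
    ∃ q ∈ X.Q ⊓ Subgroup.centralizer ({X.b} : Set G), q * X.s ≠ X.s * q := by
  by_contra h
  push_neg at h
  rcases X.center_R0 X.s_mem_R0 h with e | e
  exacts [X.s_ne.1 e, X.s_ne.2 e]

theorem fusion [Finite G] :
    ∃ k : G, k * X.b = X.b * k ∧ k * X.z * k⁻¹ ∈ X.Q ⊓ Subgroup.centralizer ({X.b} : Set G) ∧
      k * X.z * k⁻¹ ≠ X.z := by
  have D := X.M.D
  obtain ⟨q, hq, hqs⟩ := X.exists_noncomm
  obtain ⟨n, hnz, hns, hnb⟩ := X.hn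
  have hqb : q * X.b = X.b * q := Subgroup.mem_centralizer_singleton_iff.1 hq.2
  have hqz : q * X.z * q⁻¹ = X.z := mul_inv_eq_iff_eq_mul.2 (D.z_central q hq.1)
  have hqs' : q * X.s * q⁻¹ = X.s * X.z := by
    rcases D.comm _ hq.1 _ X.s_mem_R0.1 with e | e
    · exact absurd (commutatorElement_eq_one_iff_mul_comm.mp e) hqs
    · rw [D.z_central X.s X.s_mem_R0.1, ← e, commutatorElement_def]; group
  have hb3z : X.b ^ (3 : ℤ) = 1 := by
    rw [show (3 : ℤ) = ((3 : ℕ) : ℤ) from rfl, zpow_natCast, X.b_cube]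
  have hz1 : q⁻¹ * X.z * q = X.z := by rw [mul_assoc, ← D.z_central q hq.1]; group
  obtain ⟨i, hi⟩ := Subgroup.mem_zpowers_iff.1 hnb
  have hu : ∃ u, Commute q u ∧ n * u * n⁻¹ = X.b := by
    refine ⟨X.b ^ i, (Commute.zpow_right hqb i), ?_⟩
    rw [← conj_zpow, ← hi, ← zpow_mul]
    have h3 : i % 3 = 1 ∨ i % 3 = 2 := by
      by_contra hc
      have h0 : i % 3 = 0 := by omega
      have h1 : X.b ^ i = 1 := by
        rw [← Int.emod_add_mul_ediv i 3, h0, zero_add, zpow_mul,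
          hb3z, one_zpow]
      rw [h1] at hi
      have h2 : X.b = 1 := conj_eq_one_iff.1 hi.symm
      have := X.hb3
      rw [h2, orderOf_one] at this
      norm_num at this
    have h4 : (i * i) % 3 = 1 := by rw [Int.mul_emod]; rcases h3 with e | e <;> rw [e] <;> norm_num
    rw [← Int.emod_add_mul_ediv (i * i) 3, h4, zpow_add, zpow_mul _ 3,
      hb3z, one_zpow, mul_one, zpow_one]
  obtain ⟨u, hqu, hnu⟩ := hu
  refine ⟨n * q * n⁻¹ * q⁻¹, ?_, ?_⟩
  · refine mul_inv_eq_iff_eq_mul.1 ?_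
    have e1 : q⁻¹ * X.b * q = X.b := by rw [mul_assoc, ← hqb]; group
    calc n * q * n⁻¹ * q⁻¹ * X.b * (n * q * n⁻¹ * q⁻¹)⁻¹
        = n * q * n⁻¹ * (q⁻¹ * X.b * q) * n * q⁻¹ * n⁻¹ := by group
      _ = n * (q * (n⁻¹ * X.b * n) * q⁻¹) * n⁻¹ := by rw [e1]; group
      _ = n * u * n⁻¹ := by
          rw [show n⁻¹ * X.b * n = u by rw [← hnu]; group, hqu.eq]; group
      _ = X.b := hnu
  · have e2 : n * q * n⁻¹ * q⁻¹ * X.z * (n * q * n⁻¹ * q⁻¹)⁻¹ = X.z * X.s := by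
      calc n * q * n⁻¹ * q⁻¹ * X.z * (n * q * n⁻¹ * q⁻¹)⁻¹
          = n * q * n⁻¹ * (q⁻¹ * X.z * q) * n * q⁻¹ * n⁻¹ := by group
        _ = n * (q * X.s * q⁻¹) * n⁻¹ := by
          rw [hz1,
            show n * q * n⁻¹ * X.z * n = n * q * (n⁻¹ * X.z * n) by group,
            show n⁻¹ * X.z * n = X.s by rw [← hns]; group]
          group
        _ = (n * X.s * n⁻¹) * (n * X.z * n⁻¹) := by rw [hqs']; group
        _ = X.z * X.s := by rw [hns, hnz]
    rw [e2]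
    refine ⟨mul_mem ⟨D.z_mem, Subgroup.mem_centralizer_singleton_iff.2 X.z_comm⟩ X.s_mem_R0, fun e => ?_⟩
    exact X.s_ne.1 (mul_eq_left.1 e)

end Ctx

end Cfsg.Agent.MonsterThree
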